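import Mathlib.Data.Complex.Basic
import Mathlib.Data.ZMod.Basic
import Mathlib.Algebra.Field.ZMod
import Mathlib.Tactic.LinearCombination
import Mathlib.Tactic.FieldSimp
import Mathlib.Tactic.Push

/-!
# The group `3²:D₈`: solving the class-algebra equations
-/

set_option autoImplicit false

namespace CfsgLib.Char.NineDihedral

/-- The form of three constituents of total degree `-1`. -/
noncomputable def form (dA dB dC uA uB uC vA vB vC : ℂ) : ℂ :=
  uA * vA / dA + uB * vB / dB + uC * vC / dC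

/-- The form determines the dual form. -/
theorem dual {dA dB dC uA uB uC vA vB vC g11 g12 g22 : ℂ} (hA : dA ≠ 0) (hB : dB ≠ 0) (hC : dC ≠ 0)
    (hd : dA + dB + dC = -1) (hu : uA + uB + uC = 0) (hv : vA + vB + vC = 0)
    (h11 : form dA dB dC uA uB uC uA uB uC = g11) (h12 : form dA dB dC uA uB uC vA vB vC = g12)
    (h22 : form dA dB dC vA vB vC vA vB vC = g22) :
    g22 * uA ^ 2 - 2 * g12 * (uA * vA) + g11 * vA ^ 2 = (g11 * g22 - g12 ^ 2) * (dA ^ 2 + dA) ∧
      g22 * (uA * uB) - g12 * (uA * vB + uB * vA) + g11 * (vA * vB) =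
        (g11 * g22 - g12 ^ 2) * (dA * dB) := by
  subst h11 h12 h22
  obtain rfl : uC = -uA - uB := by linear_combination hu
  obtain rfl : vC = -vA - vB := by linear_combination hv
  obtain rfl : dC = -1 - dA - dB := by linear_combination hd
  simp only [form]
  constructor <;> field_simp <;> ring

/-- A vector orthogonal to a non-degenerate pair. -/
theorem orthogonal {dA dB dC uA uB uC vA vB vC kA kB kC : ℂ} (hA : dA ≠ 0) (hB : dB ≠ 0)
    (hC : dC ≠ 0) (hd : dA + dB + dC = -1) (hu : uA + uB + uC = 0) (hv : vA + vB + vC = 0)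
    (hk : kA + kB + kC = 0) (h1 : form dA dB dC kA kB kC uA uB uC = 0)
    (h2 : form dA dB dC kA kB kC vA vB vC = 0)
    (hdet : form dA dB dC uA uB uC uA uB uC * form dA dB dC vA vB vC vA vB vC -
      form dA dB dC uA uB uC vA vB vC ^ 2 ≠ 0) : kA = 0 := by
  have key : kA * (form dA dB dC uA uB uC uA uB uC * form dA dB dC vA vB vC vA vB vC -
      form dA dB dC uA uB uC vA vB vC ^ 2) =
      uA * (form dA dB dC vA vB vC vA vB vC * form dA dB dC kA kB kC uA uB uC -
        form dA dB dC uA uB uC vA vB vC * form dA dB dC kA kB kC vA vB vC) +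
      vA * (form dA dB dC uA uB uC uA uB uC * form dA dB dC kA kB kC vA vB vC -
        form dA dB dC uA uB uC vA vB vC * form dA dB dC kA kB kC uA uB uC) := by
    obtain rfl : uC = -uA - uB := by linear_combination hu
    obtain rfl : vC = -vA - vB := by linear_combination hv
    obtain rfl : kC = -kA - kB := by linear_combination hk
    obtain rfl : dC = -1 - dA - dB := by linear_combination hd
    simp only [form]
    field_simp
    ring
  rw [h1, h2] at key
  simp only [mul_zero, sub_zero, add_zero] at key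
  exact (mul_eq_zero.1 key).resolve_right hdet

/-- No fusion among the involutions: a constituent has degree `-1`. -/
theorem unfused {w a b c d : ℂ} {W A B C D : Fin 3 → ℂ} (hw : w ≠ 0) (ha : a ≠ 0) (hb : b ≠ 0)
    (hc : c ≠ 0) (hd : d ≠ 0) (h3 : w + a + b = -1) (h4 : w + c + d = -1)
    (s3 : ∀ i, W i + A i + B i = 0) (s4 : ∀ i, W i + C i + D i = 0)
    {g : Fin 3 → Fin 3 → ℂ} {g' : Fin 3 → Fin 3 → ℂ}
    (f3 : ∀ i j, form w a b (W i) (A i) (B i) (W j) (A j) (B j) = g i j)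
    (f4 : ∀ i j, form w c d (W i) (C i) (D i) (W j) (C j) (D j) = g' i j)
    {κ : Fin 3 → ℂ} (hκ : ∀ i, κ i ≠ 0)
    (e00 : g 0 0 = 0) (e01 : g 0 1 = κ 0 * κ 1 * 3) (e02 : g 0 2 = κ 0 * κ 2 * 3)
    (e11 : g 1 1 = κ 1 * κ 1 * -1) (e12 : g 1 2 = 0) (e22 : g 2 2 = κ 2 * κ 2 * 1)
    (e01' : g' 0 1 = κ 0 * κ 1 * 3) (e02' : g' 0 2 = κ 0 * κ 2 * 3)
    (e11' : g' 1 1 = κ 1 * κ 1 * 1) (e12' : g' 1 2 = 0) (e22' : g' 2 2 = κ 2 * κ 2 * -1) :
    w = -1 := by
  have k1 := hκ 1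
  have k2 := hκ 2
  -- radical vectors
  have lin : ∀ {a b : ℂ} {A B : Fin 3 → ℂ} (p q : ℂ) (j : Fin 3),
      form w a b (W 0 + p * W 1 + q * W 2) (A 0 + p * A 1 + q * A 2) (B 0 + p * B 1 + q * B 2)
        (W j) (A j) (B j) = form w a b (W 0) (A 0) (B 0) (W j) (A j) (B j) +
          p * form w a b (W 1) (A 1) (B 1) (W j) (A j) (B j) +
          q * form w a b (W 2) (A 2) (B 2) (W j) (A j) (B j) := fun p q j => by
    simp only [form]; ring
  have sym : ∀ i j, g i j = g j i := fun i j => by rw [← f3, ← f3, form, form]; ring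
  have sym' : ∀ i j, g' i j = g' j i := fun i j => by rw [← f4, ← f4, form, form]; ring
  have r3 : W 0 + 3 * (κ 0 / κ 1) * W 1 + -3 * (κ 0 / κ 2) * W 2 = 0 := by
    refine orthogonal hw ha hb h3 (s3 1) (s3 2)
      (kB := A 0 + 3 * (κ 0 / κ 1) * A 1 + -3 * (κ 0 / κ 2) * A 2)
      (kC := B 0 + 3 * (κ 0 / κ 1) * B 1 + -3 * (κ 0 / κ 2) * B 2)
      (by linear_combination s3 0 + 3 * (κ 0 / κ 1) * s3 1 + -3 * (κ 0 / κ 2) * s3 2) ?_ ?_ ?_
    · rw [lin, f3, f3, f3, e01, e11, sym 2 1, e12]; field_simp; ring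
    · rw [lin, f3, f3, f3, e02, e12, e22]; field_simp; ring
    · rw [f3, f3, f3, e11, e12, e22]
      simp [k1, k2]
  have r4 : W 0 + -3 * (κ 0 / κ 1) * W 1 + 3 * (κ 0 / κ 2) * W 2 = 0 := by
    refine orthogonal hw hc hd h4 (s4 1) (s4 2)
      (kB := C 0 + -3 * (κ 0 / κ 1) * C 1 + 3 * (κ 0 / κ 2) * C 2)
      (kC := D 0 + -3 * (κ 0 / κ 1) * D 1 + 3 * (κ 0 / κ 2) * D 2)
      (by linear_combination s4 0 + -3 * (κ 0 / κ 1) * s4 1 + 3 * (κ 0 / κ 2) * s4 2) ?_ ?_ ?_
    · rw [lin, f4, f4, f4, e01', e11', sym' 2 1, e12']; field_simp; ring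
    · rw [lin, f4, f4, f4, e02', e12', e22']; field_simp; ring
    · rw [f4, f4, f4, e11', e12', e22']
      simp [k1, k2]
  have hW : W 0 = 0 := by linear_combination r3 / 2 + r4 / 2
  have hB : B 0 = -A 0 := by linear_combination s3 0 - hW
  have h00 := (f3 0 0).trans e00
  rw [hW, hB, form] at h00
  field_simp at h00
  have hA : A 0 ≠ 0 := by
    intro h
    have := (f3 0 1).trans e01
    rw [hW, hB, h, form] at this
    simp [hκ 0, hκ 1] at this
  have hab' : w * (A 0 ^ 2 * (a + b)) = 0 := by linear_combination h00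
  have hab := (mul_eq_zero.1 hab').resolve_left hw
  have := (mul_eq_zero.1 hab).resolve_left (pow_ne_zero _ hA)
  linear_combination h3 - this

/-! ### A fusion of the central involution with a reflection -/

/-- The four dual forms. -/
def Q1 (x y : ℂ) (D : ℂ) : Prop := x ^ 2 + 8 * y ^ 2 = 16 * D
/-- The second dual form. -/
def Q2 (x y : ℂ) (D : ℂ) : Prop := x ^ 2 - 6 * (x * y) + 11 * y ^ 2 = 2 * D
/-- The third dual form. -/
def Q3 (x y : ℂ) (D : ℂ) : Prop := x ^ 2 - 6 * (x * y) + 5 * y ^ 2 = -4 * D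
/-- The fourth dual form. -/
def Q4 (x y : ℂ) (D : ℂ) : Prop := -x ^ 2 - 6 * (x * y) + 7 * y ^ 2 = -16 * D

theorem triple {x y D : ℂ}
    (h : (Q1 x y D ∧ Q2 x y D ∧ Q3 x y D) ∨ (Q1 x y D ∧ Q2 x y D ∧ Q4 x y D) ∨
      (Q1 x y D ∧ Q3 x y D ∧ Q4 x y D) ∨ (Q2 x y D ∧ Q3 x y D ∧ Q4 x y D)) : D = 0 := by
  simp only [Q1, Q2, Q3, Q4] at h
  rcases h with ⟨h1, h2, h3⟩ | ⟨h1, h2, h4⟩ | ⟨h1, h3, h4⟩ | ⟨h2, h3, h4⟩
  · have hy : y ^ 2 = D := by linear_combination h2 / 6 - h3 / 6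
    have hx : x ^ 2 = 8 * D := by linear_combination h1 - 8 * hy
    have hxy : 6 * (x * y) = 17 * D := by linear_combination hx + 11 * hy - h2
    have h0 : D ^ 2 = 0 := by linear_combination (-(6 * (x * y) + 17 * D)) * hxy + 36 * y ^ 2 * hx +
      288 * D * hy
    exact pow_eq_zero_iff (by norm_num) |>.1 h0
  · have hy0 : y * (15 * y - 6 * x) = 0 := by linear_combination h1 + h4
    rcases mul_eq_zero.1 hy0 with hy | hy
    · subst hy; linear_combination (h2 - h1) / 14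
    · obtain rfl : x = 5 / 2 * y := by linear_combination -hy / 6
      linear_combination (57 / 4 * h2 - 9 / 4 * h1) / (15 / 2)
  · have hx : x ^ 2 = 64 / 9 * D := by linear_combination h1 / 9 + 4 / 9 * (h3 - h4)
    have hy : y ^ 2 = 10 / 9 * D := by linear_combination h1 / 9 - (h3 - h4) / 18
    have hxy : x * y = 25 / 9 * D := by linear_combination hx / 6 + 5 / 6 * hy - h3 / 6
    have h0 : D ^ 2 = 0 := by linear_combination 27 / 5 * ((x * y + 25 / 9 * D) * hxy -
      y ^ 2 * hx - 64 / 9 * D * hy)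
    exact pow_eq_zero_iff (by norm_num) |>.1 h0
  · have hy : y ^ 2 = D := by linear_combination h2 / 6 - h3 / 6
    have hx : x ^ 2 = 7 * D := by linear_combination (h3 - h4) / 2 + hy
    have hxy : 6 * (x * y) = 16 * D := by linear_combination hx + 11 * hy - h2
    have h0 : D ^ 2 = 0 := by linear_combination (-(6 * (x * y) + 16 * D) * hxy + 36 * y ^ 2 * hx +
      252 * D * hy) / 4
    exact pow_eq_zero_iff (by norm_num) |>.1 h0

theorem zmod9 : ¬ ∃ a b c : ZMod 9, a = 2 ∧ b = 5 ∧ c = 8 ∧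
    (32 * ((a + 1) * (b + 1)) = 33 * (a * b) ∨ 9 * ((c + 1) * (b + 1)) = 8 * (c * b)) := by
  rintro ⟨a, b, c, rfl, rfl, rfl, h | h⟩ <;> revert h <;> decide +kernel

theorem sq_of_mul {t s e S De DS c : ℂ} (h : t * s = c * (e * S)) (ht : t ^ 2 = De) (hs : s ^ 2 = DS) :
    De * DS = c ^ 2 * (e * S) ^ 2 := by
  rw [← ht, ← hs, ← mul_pow, h, mul_pow]

/-- Fusion forces a constituent of degree `-1`. -/
theorem fused {e S w : ℤ} (he : e ≠ 0) (hS : S ≠ 0) (hw : w ≠ 0) (ce : (e : ZMod 9) = 2)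
    (cS : (S : ZMod 9) = 5) (cw : (w : ZMod 9) = 8) {e1 e2 S1 S2 w1 w2 : ℂ}
    (q1e : Q1 e1 e2 ((e : ℂ) ^ 2 + e)) (q2e : Q2 e1 e2 ((e : ℂ) ^ 2 + e))
    (q1S : Q1 S1 S2 ((S : ℂ) ^ 2 + S)) (q3S : Q3 S1 S2 ((S : ℂ) ^ 2 + S))
    (q3w : Q3 w1 w2 ((w : ℂ) ^ 2 + w)) (q4w : Q4 w1 w2 ((w : ℂ) ^ 2 + w))
    (x1 : e1 * S1 + 8 * (e2 * S2) = 16 * ((e : ℂ) * S))
    (x3 : w1 * S1 - 3 * (w1 * S2 + w2 * S1) + 5 * (w2 * S2) = -4 * ((w : ℂ) * S)) :
    w = -1 := by
  simp only [Q1, Q2, Q3, Q4] at *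
  have heS : (e : ℂ) * S ≠ 0 := mul_ne_zero (by exact_mod_cast he) (by exact_mod_cast hS)
  have hwS : (w : ℂ) * S ≠ 0 := mul_ne_zero (by exact_mod_cast hw) (by exact_mod_cast hS)
  have hfe : (e1 - 4 * e2) * (7 * e1 - 20 * e2) = 0 := by linear_combination 8 * q2e - q1e
  have hfS : (S1 - 2 * S2) * (5 * S1 - 14 * S2) = 0 := by linear_combination q1S + 4 * q3S
  have hfw : (w1 - w2) * (5 * w1 - 13 * w2) = 0 := by linear_combination 4 * q3w - q4w
  -- the axis of `S`
  have hS2 : S1 = 2 * S2 := by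
    rcases mul_eq_zero.1 hfS with h | h
    · linear_combination h
    exfalso
    obtain ⟨r, rfl, rfl⟩ : ∃ r, S1 = 14 * r ∧ S2 = 5 * r :=
      ⟨S2 / 5, by linear_combination h / 5, by ring⟩
    rcases mul_eq_zero.1 hfe with h' | h'
    · obtain rfl : e1 = 4 * e2 := by linear_combination h'
      have k := sq_of_mul (c := 1 / 6) (e := (e : ℂ)) (S := (S : ℂ)) (t := e2) (s := r)
        (by linear_combination x1 / 96) (De := 2 / 3 * ((e : ℂ) ^ 2 + e))
        (by linear_combination q1e / 24) (DS := 4 / 99 * ((S : ℂ) ^ 2 + S))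
        (by linear_combination q1S / 396)
      have k' : ((e : ℂ) * S) * (32 * ((e + 1) * (S + 1)) - 33 * ((e : ℂ) * S)) = 0 := by
        linear_combination 1188 * k
      have k'' := sub_eq_zero.1 ((mul_eq_zero.1 k').resolve_left heS)
      have k9 : (32 * ((e + 1) * (S + 1)) : ℤ) = 33 * (e * S) := by exact_mod_cast k''
      have k9' := congrArg (fun z : ℤ => (z : ZMod 9)) k9
      push_cast at k9'
      exact zmod9 ⟨_, _, 8, ce, cS, rfl, Or.inl k9'⟩
    · obtain ⟨t, rfl, rfl⟩ : ∃ t, e1 = 20 * t ∧ e2 = 7 * t :=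
        ⟨e2 / 7, by linear_combination h' / 7, by ring⟩
      have k := sq_of_mul (c := 1 / 35) (e := (e : ℂ)) (S := (S : ℂ)) (t := t) (s := r)
        (by linear_combination x1 / 560) (De := 2 / 99 * ((e : ℂ) ^ 2 + e))
        (by linear_combination q1e / 792) (DS := 4 / 99 * ((S : ℂ) ^ 2 + S))
        (by linear_combination q1S / 396)
      have k' : ((e : ℂ) * S) * (9800 * ((e + 1) * (S + 1)) - 9801 * ((e : ℂ) * S)) = 0 := by
        linear_combination 12006225 * k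
      have k'' := sub_eq_zero.1 ((mul_eq_zero.1 k').resolve_left heS)
      have k9 : (9800 * ((e + 1) * (S + 1)) : ℤ) = 9801 * (e * S) := by exact_mod_cast k''
      obtain ⟨a, ha⟩ : ∃ a : ℤ, e + 1 = 3 * (3 * a + 1) := by
        have : ((e - 2 : ℤ) : ZMod 9) = 0 := by push_cast; rw [ce, sub_self]
        obtain ⟨a, ha⟩ := (ZMod.intCast_zmod_eq_zero_iff_dvd _ 9).1 this
        exact ⟨a, by push_cast at ha; omega⟩
      obtain ⟨b, hb⟩ : ∃ b : ℤ, S + 1 = 3 * (3 * b + 2) := by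
        have : ((S - 5 : ℤ) : ZMod 9) = 0 := by push_cast; rw [cS, sub_self]
        obtain ⟨b, hb⟩ := (ZMod.intCast_zmod_eq_zero_iff_dvd _ 9).1 this
        exact ⟨b, by push_cast at hb; omega⟩
      rw [ha, hb] at k9
      have k3 : (9800 : ℤ) * ((3 * a + 1) * (3 * b + 2)) = 1089 * (e * S) :=
        mul_left_cancel₀ (show (9 : ℤ) ≠ 0 by norm_num) (by linear_combination k9)
      have k3' := congrArg (fun z : ℤ => (z : ZMod 3)) k3
      push_cast at k3'
      rw [show (3 : ZMod 3) = 0 from rfl, show (1089 : ZMod 3) = 0 from rfl] at k3'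
      simp only [zero_mul, zero_add, mul_one, one_mul] at k3'
      revert k3'
      decide +kernel
  -- the axis of `w`
  rcases mul_eq_zero.1 hfw with h | h
  · obtain rfl : w1 = w2 := by linear_combination h
    have : ((w : ℂ)) * (w + 1) = 0 := by linear_combination q3w / 4
    have hw1 := (mul_eq_zero.1 this).resolve_left (by exact_mod_cast hw)
    have : ((w + 1 : ℤ) : ℂ) = 0 := by push_cast; exact hw1
    have : w + 1 = 0 := by exact_mod_cast this
    omega
  · exfalso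
    obtain ⟨r, rfl, rfl⟩ : ∃ r, w1 = 13 * r ∧ w2 = 5 * r :=
      ⟨w2 / 5, by linear_combination h / 5, by ring⟩
    subst hS2
    have k := sq_of_mul (c := 2 / 9) (e := (w : ℂ)) (S := (S : ℂ)) (t := r) (s := S2)
      (by linear_combination x3 / -18) (De := 1 / 24 * ((w : ℂ) ^ 2 + w))
      (by linear_combination q3w / -96) (DS := 4 / 3 * ((S : ℂ) ^ 2 + S))
      (by linear_combination q1S / 12)
    have k' : ((w : ℂ) * S) * (9 * ((w + 1) * (S + 1)) - 8 * ((w : ℂ) * S)) = 0 := by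
      linear_combination 162 * k
    have k'' := sub_eq_zero.1 ((mul_eq_zero.1 k').resolve_left hwS)
    have k9 : (9 * ((w + 1) * (S + 1)) : ℤ) = 8 * (w * S) := by exact_mod_cast k''
    have k9' := congrArg (fun z : ℤ => (z : ZMod 9)) k9
    push_cast at k9'
    exact zmod9 ⟨2, _, _, rfl, cS, cw, Or.inr k9'⟩

end CfsgLib.Char.NineDihedral
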