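import Cfsg.Agent.Lib.Char.NineDihedral.Main
import Cfsg.Agent.Lib.Char.TransLinear.AutCard
import Mathlib.GroupTheory.Sylow

/-!
# A self-centralizing Sylow `3²` with dihedral normalizer quotient: the model and non-simplicity
-/

set_option autoImplicit false
set_option linter.unusedSectionVars false

namespace CfsgLib.Char.NineDihedral

open Cfsg CfsgLib.Char

universe u

theorem dihedral_cases : ∀ g : DihedralGroup 4, ∃ k : Fin 4,
    g = DihedralGroup.r 1 ^ k.val ∨ g = DihedralGroup.sr 0 * DihedralGroup.r 1 ^ k.val := by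
  decide +kernel

theorem vec_cases : ∀ w : Multiplicative Vec,
    w = Multiplicative.ofAdd (1, 0) ^ w.toAdd.1.val * Multiplicative.ofAdd (0, 1) ^ w.toAdd.2.val := by
  decide +kernel

theorem act_gens :
    act (.r 1) (Multiplicative.ofAdd (1, 0)) = Multiplicative.ofAdd ((0, 1) : Vec) ∧
    act (.r 1) (Multiplicative.ofAdd (0, 1)) = Multiplicative.ofAdd ((2, 0) : Vec) ∧
    act (.sr 0) (Multiplicative.ofAdd (1, 0)) = Multiplicative.ofAdd ((1, 0) : Vec) ∧
    act (.sr 0) (Multiplicative.ofAdd (0, 1)) = Multiplicative.ofAdd ((0, 2) : Vec) := by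
  refine ⟨?_, ?_, ?_, ?_⟩ <;> (simp only [act]; decide +kernel)

/-- A faithful action of `D₈` on a group of order nine and exponent three is the model action. -/
theorem exists_basis {V : Type*} [CommGroup V] [Finite V] (h9 : Nat.card V = 9) (h3 : ∀ x : V, x ^ 3 = 1)
    (c : DihedralGroup 4 →* MulAut V) (hc : Function.Injective c) :
    ∃ ψ : Multiplicative Vec →* V, Function.Bijective ψ ∧
      ∀ g w, ψ (act g w) = c g (ψ w) := by
  classical
  have inv_sq : ∀ x : V, x⁻¹ = x * x := fun x => inv_eq_of_mul_eq_one_right (by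
    rw [← mul_assoc, ← h3 x, pow_three, mul_assoc])
  have three_eq : ∀ {x : V}, x * x = 1 → x = 1 := fun {x} h => by
    have := h3 x; rwa [pow_three, h, mul_one] at this
  set R := c (.r 1) with hR
  set S := c (.sr 0) with hS
  have rel : ∀ {a b : DihedralGroup 4}, a = b → c a = c b := fun h => congrArg c h
  have hS2 : ∀ x, S (S x) = x := fun x => by
    rw [← MulAut.mul_apply, hS, ← map_mul, rel (show DihedralGroup.sr (0 : ZMod 4) * .sr 0 = 1 by decide),
      map_one, MulAut.one_apply]
  have hSR : ∀ x, S (R x) = R (R (R (S x))) := fun x => by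
    simp only [← MulAut.mul_apply, hS, hR, ← map_mul]
    rw [rel (show DihedralGroup.sr (0 : ZMod 4) * .r 1 = .r 1 * (.r 1 * (.r 1 * .sr 0)) by decide)]
  have hR4 : ∀ x, R (R (R (R x))) = x := fun x => by
    simp only [← MulAut.mul_apply, hR, ← map_mul]
    rw [rel (show DihedralGroup.r (1 : ZMod 4) * (.r 1 * (.r 1 * .r 1)) = 1 by decide), map_one,
      MulAut.one_apply]
  let A : MulAut V := R * R
  have hA : ∀ x, A x = R (R x) := fun x => rfl
  have hA1 : A ≠ 1 := fun e => absurd (hc (show c (.r 1 * .r 1) = c 1 by rw [map_mul, map_one]; exact e))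
    (by decide)
  have hA2 : ∀ x, A (A x) = x := fun x => by rw [hA, hA, hR4]
  -- the fixed points of the central involution are trivial
  have hfix : ∀ x, A x = x → x = 1 := by
    intro x hx
    by_contra hx1
    refine hA1 (MulEquiv.ext fun y => ?_)
    let F : Subgroup V := A.toMonoidHom.eqLocus (MonoidHom.id V)
    have hxF : x ∈ F := hx
    have hcard : Nat.card F = 3 ∨ Nat.card F = 9 := by
      have hd : Nat.card F ∣ 3 ^ 2 := by rw [show 3 ^ 2 = 9 from rfl, ← h9]; exact Subgroup.card_subgroup_dvd_card F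
      obtain ⟨i, hi, hi'⟩ := (Nat.dvd_prime_pow Nat.prime_three).1 hd
      interval_cases i
      · exfalso
        exact hx1 (Subgroup.mem_bot.1 ((Subgroup.eq_bot_of_card_eq F hi') ▸ hxF))
      · exact Or.inl hi'
      · exact Or.inr hi'
    rcases hcard with hF | hF
    swap
    · have hy : y ∈ F := (Subgroup.eq_top_of_card_eq F (hF.trans h9.symm)) ▸ Subgroup.mem_top y
      exact hy
    exfalso
    have : Fact (Nat.Prime 3) := ⟨Nat.prime_three⟩
    -- `x` and an inverted element are eigenvectors of both generators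
    have hgen : ∀ z ∈ F, z = 1 ∨ z = x ∨ z = x⁻¹ := by
      intro z hz
      obtain ⟨n, hn⟩ := Subgroup.mem_zpowers_iff.1 (mem_zpowers_of_prime_card
        (G := F) (g := ⟨x, hxF⟩) (g' := ⟨z, hz⟩) hF (fun e => hx1 (congrArg Subtype.val e)))
      have hz' : z = x ^ (n % 3) := by
        rw [← show x ^ n = z from congrArg Subtype.val hn]
        exact zpow_eq_zpow_emod n (show x ^ (3 : ℤ) = 1 by exact_mod_cast h3 x)
      obtain h | h | h : n % 3 = 0 ∨ n % 3 = 1 ∨ n % 3 = 2 := by omega
      · exact Or.inl (by rw [hz', h, zpow_zero])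
      · exact Or.inr (Or.inl (by rw [hz', h, zpow_one]))
      · exact Or.inr (Or.inr (by rw [hz', h, show (2 : ℤ) = ((2 : ℕ) : ℤ) from rfl, zpow_natCast, inv_sq, pow_two]))
    obtain ⟨y₀, hy₀⟩ : ∃ y, A y ≠ y := by
      by_contra hn
      push Not at hn
      exact hA1 (MulEquiv.ext hn)
    let v := y₀ * (A y₀)⁻¹
    have hv : A v = v⁻¹ := by simp [v, hA2, mul_comm]
    have hv1 : v ≠ 1 := fun e => hy₀ (mul_inv_eq_one.1 e).symm
    have hall : ∀ w, A w = w⁻¹ → w = 1 ∨ w = v ∨ w = v⁻¹ := by
      intro w hw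
      let I : Subgroup V := A.toMonoidHom.eqLocus (invMonoidHom : V →* V)
      have hI : Nat.card I ∣ 3 ^ 2 := by
        rw [show 3 ^ 2 = 9 from rfl, ← h9]; exact Subgroup.card_subgroup_dvd_card I
      obtain ⟨i, hi, hi'⟩ := (Nat.dvd_prime_pow Nat.prime_three).1 hI
      have hvI : v ∈ I := hv
      have hwI : w ∈ I := hw
      interval_cases i
      · exact absurd (Subgroup.mem_bot.1 ((Subgroup.eq_bot_of_card_eq I hi') ▸ hvI)) hv1
      · obtain ⟨n, hn⟩ := Subgroup.mem_zpowers_iff.1 (mem_zpowers_of_prime_card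
          (G := I) (g := ⟨v, hvI⟩) (g' := ⟨w, hwI⟩) hi' (fun e => hv1 (congrArg Subtype.val e)))
        have hz' : w = v ^ (n % 3) := by
          rw [← show v ^ n = w from congrArg Subtype.val hn]
          exact zpow_eq_zpow_emod n (show v ^ (3 : ℤ) = 1 by exact_mod_cast h3 v)
        obtain h | h | h : n % 3 = 0 ∨ n % 3 = 1 ∨ n % 3 = 2 := by omega
        · exact Or.inl (by rw [hz', h, zpow_zero])
        · exact Or.inr (Or.inl (by rw [hz', h, zpow_one]))
        · exact Or.inr (Or.inr (by rw [hz', h, show (2 : ℤ) = ((2 : ℕ) : ℤ) from rfl, zpow_natCast, inv_sq, pow_two]))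
      · have hxI : x ∈ I := (Subgroup.eq_top_of_card_eq I (hi'.trans h9.symm)) ▸ Subgroup.mem_top x
        have hxI' : A x = x⁻¹ := hxI
        exact absurd (three_eq (mul_eq_one_iff_eq_inv.2 (hx.symm.trans hxI'))) hx1
    have hRx : R (R x) = x := hx
    have hcomm : ∀ z, A (R z) = R (A z) := fun z => by simp [hA]
    have hRv : R v = v ∨ R v = v⁻¹ := by
      rcases hall (R v) (by rw [hcomm, hv, map_inv]) with e | e | e
      · exact absurd (R.injective (e.trans (map_one R).symm)) hv1
      · exact Or.inl e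
      · exact Or.inr e
    have : A v = v := by
      rw [hA]
      rcases hRv with e | e
      · rw [e, e]
      · rw [e, map_inv, e, inv_inv]
    exact hv1 (three_eq (mul_eq_one_iff_eq_inv.2 (this.symm.trans hv)))
  have hinv : ∀ x, A x = x⁻¹ := fun x => by
    have := hfix (x * A x) (by rw [map_mul, hA2, mul_comm])
    exact (inv_eq_of_mul_eq_one_right this).symm
  -- a fixed point of the reflection
  obtain ⟨u, hu, hu1⟩ : ∃ u, S u = u ∧ u ≠ 1 := by
    by_contra hn
    push Not at hn
    have hSinv : S = A := MulEquiv.ext fun x => by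
      have := hn (x * S x) (by rw [map_mul, hS2, mul_comm])
      rw [hinv]
      exact (inv_eq_of_mul_eq_one_right this).symm
    exact absurd (hc (show c (.sr 0) = c (.r 1 * .r 1) by rw [map_mul]; exact hSinv)) (by decide)
  let v := R u
  let ψ : Multiplicative Vec →* V := MonoidHom.mk'
    (fun w => u ^ w.toAdd.1.val * v ^ w.toAdd.2.val) fun a b => by
      simp only [toAdd_mul, Prod.fst_add, Prod.snd_add, ZMod.val_add]
      rw [← pow_eq_pow_mod _ (h3 u), ← pow_eq_pow_mod _ (h3 v), pow_add, pow_add]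
      exact mul_mul_mul_comm _ _ _ _
  have e10 : ψ (Multiplicative.ofAdd (1, 0)) = u := by simp [ψ, ZMod.val_one]
  have e01 : ψ (Multiplicative.ofAdd (0, 1)) = v := by simp [ψ, ZMod.val_one]
  have e20 : ψ (Multiplicative.ofAdd (2, 0)) = u⁻¹ := by
    simp [ψ, inv_sq, show (2 : ZMod 3).val = 2 from rfl, pow_two]
  have e02 : ψ (Multiplicative.ofAdd (0, 2)) = v⁻¹ := by
    simp [ψ, inv_sq, show (2 : ZMod 3).val = 2 from rfl, pow_two]
  obtain ⟨a1, a2, a3, a4⟩ := act_gens
  have hom_ext : ∀ f g : Multiplicative Vec →* V, f (Multiplicative.ofAdd (1, 0)) = g (Multiplicative.ofAdd (1, 0)) →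
      f (Multiplicative.ofAdd (0, 1)) = g (Multiplicative.ofAdd (0, 1)) → f = g := by
    intro f g h1 h2
    refine MonoidHom.ext fun w => ?_
    rw [vec_cases w, map_mul, map_mul, map_pow, map_pow, map_pow, map_pow, h1, h2]
  have hr : ∀ w, ψ (act (.r 1) w) = R (ψ w) := fun w => DFunLike.congr_fun
    (hom_ext (ψ.comp (act (.r 1)).toMonoidHom) (R.toMonoidHom.comp ψ)
      (by simp [a1, e01, e10, v])
      (by simp only [MonoidHom.comp_apply, MulEquiv.coe_toMonoidHom, a2, e20, e01]
          exact (hinv u).symm)) w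
  have hs : ∀ w, ψ (act (.sr 0) w) = S (ψ w) := fun w => DFunLike.congr_fun
    (hom_ext (ψ.comp (act (.sr 0)).toMonoidHom) (S.toMonoidHom.comp ψ)
      (by simp [a3, e10, hu])
      (by simp only [MonoidHom.comp_apply, MulEquiv.coe_toMonoidHom, a4, e02, e01, v]
          rw [hSR, hu, ← map_inv]
          exact congrArg R (hinv u).symm)) w
  have hpow : ∀ (k : ℕ) w, ψ (act (DihedralGroup.r 1 ^ k) w) = c (DihedralGroup.r 1 ^ k) (ψ w) := by
    intro k
    induction k with
    | zero => intro w; simp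
    | succ k ih =>
      intro w
      rw [pow_succ, map_mul, MulAut.mul_apply, ih, hr, map_mul, MulAut.mul_apply]
  refine ⟨ψ, ?_, fun g w => ?_⟩
  · rw [Nat.bijective_iff_injective_and_card, injective_iff_map_eq_one]
    refine ⟨fun w hw => ?_, by rw [h9]; simp [Vec]⟩
    -- the reflection separates the two lines
    have hw' : u ^ w.toAdd.1.val * v ^ w.toAdd.2.val = 1 := hw
    have hSv : S v = v⁻¹ := by
      have := hs (Multiplicative.ofAdd (0, 1))
      rw [a4, e02, e01] at this
      exact this.symm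
    have h1 := congrArg S hw'
    rw [map_mul, map_pow, map_pow, map_one, hu, hSv] at h1
    have hu' : u ^ w.toAdd.1.val = 1 := by
      refine three_eq ?_
      calc u ^ w.toAdd.1.val * u ^ w.toAdd.1.val
          = (u ^ w.toAdd.1.val * v ^ w.toAdd.2.val) * (u ^ w.toAdd.1.val * v⁻¹ ^ w.toAdd.2.val) := by
            rw [mul_mul_mul_comm, inv_pow, mul_inv_cancel, mul_one]
        _ = 1 := by rw [hw', h1, one_mul]
    have hv' : v ^ w.toAdd.2.val = 1 := by rwa [hu', one_mul] at hw'
    have hv1 : v ≠ 1 := fun e => hu1 (R.injective (e.trans (map_one R).symm))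
    have key : ∀ {z : V}, z ≠ 1 → ∀ a : ZMod 3, z ^ a.val = 1 → a = 0 := by
      intro z hz a ha
      have h3z : orderOf z = 3 := orderOf_eq_prime (h3 z) hz
      have := orderOf_dvd_of_pow_eq_one ha
      rw [h3z] at this
      have hlt := ZMod.val_lt a
      exact (ZMod.val_eq_zero a).1 (by omega)
    exact Multiplicative.toAdd.injective (Prod.ext (key hu1 _ hu') (key hv1 _ hv'))
  · obtain ⟨k, rfl | rfl⟩ := dihedral_cases g
    · exact hpow _ _
    · rw [map_mul, MulAut.mul_apply, hs, hpow, map_mul, MulAut.mul_apply]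

variable {G : Type u} [Group G] [Finite G]

/-- A self-centralizing Sylow `3²` with centralizers in its normalizer, which has dihedral Sylow
two-subgroups of order eight: the group is not simple. -/
theorem not_simple (P : Sylow 3 G) (hM9 : Nat.card (P : Subgroup G) = 9)
    (hMel : ∀ m ∈ (P : Subgroup G), m ^ 3 = 1)
    (hCM : Subgroup.centralizer ((P : Subgroup G) : Set G) = (P : Subgroup G))
    (hCg : ∀ g ∈ (P : Subgroup G), g ≠ 1 →
      Subgroup.centralizer ({g} : Set G) ≤ Subgroup.normalizer ((P : Subgroup G) : Set G))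
    (hS : ∀ S : Sylow 2 ↥(Subgroup.normalizer ((P : Subgroup G) : Set G)),
      Nonempty (↥(S : Subgroup ↥(Subgroup.normalizer ((P : Subgroup G) : Set G))) ≃* DihedralGroup 4)) :
    ¬ IsSimpleGroup G := by
  classical
  have := Fintype.ofFinite G
  have : Fact (Nat.Prime 3) := ⟨Nat.prime_three⟩
  have : Fact (Nat.Prime 2) := ⟨Nat.prime_two⟩
  set V : Subgroup G := (P : Subgroup G) with hVdef
  set N := Subgroup.normalizer (V : Set G) with hN
  have hVN : V ≤ N := Subgroup.le_normalizer
  have hab : ∀ a b : V, a * b = b * a := fun a b => by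
    have ha : (a : G) ∈ Subgroup.centralizer (V : Set G) := hCM.symm ▸ a.2
    exact Subtype.ext (Subgroup.mem_centralizer_iff.1 ha b b.2).symm
  let _ : CommGroup V := { (inferInstance : Group V) with mul_comm := hab }
  -- the order of the normalizer
  let c₀ : N →* MulAut V := Subgroup.normalizerMonoidHom V
  have hker : c₀.ker = V.subgroupOf N := by
    show (Subgroup.normalizerMonoidHom V).ker = _
    rw [Subgroup.normalizerMonoidHom_ker, hCM]
  have h9 : Nat.card (V.subgroupOf N) = 9 := (Nat.card_congr (Subgroup.subgroupOfEquivOfLe hVN).toEquiv).trans hM9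
  have hidx : (V.subgroupOf N).index ∣ 48 := by
    rw [← hker, Subgroup.index_ker]
    refine (Subgroup.card_subgroup_dvd_card _).trans ?_
    rw [card_mulAut_of_exponent_prime (p := 3) (n := 2) (fun x => Subtype.ext (hMel x x.2)) hM9]
    decide
  have hidx3 : ¬ 3 ∣ (V.subgroupOf N).index := fun hd =>
    P.not_dvd_index (hd.trans ⟨N.index, (Subgroup.relIndex_mul_index hVN).symm⟩)
  have hcard : Nat.card N = 9 * (V.subgroupOf N).index := by
    rw [← h9, Subgroup.card_mul_index]
  let S : Sylow 2 N := default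
  obtain ⟨e⟩ := hS S
  have hS8 : Nat.card (S : Subgroup N) = 8 := by
    rw [Nat.card_congr e.toEquiv, DihedralGroup.nat_card]
  have h8 : 8 ∣ (V.subgroupOf N).index := by
    refine (Nat.Coprime.dvd_of_dvd_mul_left (show Nat.Coprime 8 9 by decide) ?_)
    rw [← hcard, ← hS8]
    exact Subgroup.card_subgroup_dvd_card _
  have h16 : ¬ 16 ∣ (V.subgroupOf N).index := by
    intro hd
    refine S.not_dvd_index ?_
    have h2 := Subgroup.card_mul_index (S : Subgroup N)
    rw [hS8, hcard] at h2
    obtain ⟨m, hm⟩ := hd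
    exact ⟨9 * m, by rw [hm] at h2; omega⟩
  have hm8 : (V.subgroupOf N).index = 8 := by
    obtain ⟨m, hm⟩ := h8
    rw [hm] at hidx hidx3 h16 ⊢
    have hm6 : m ∣ 6 := Nat.dvd_of_mul_dvd_mul_left (show 0 < 8 by norm_num) hidx
    have := Nat.le_of_dvd (by norm_num) hm6
    interval_cases m <;> omega
  have h72 : Nat.card N = 72 := by rw [hcard, hm8]
  -- the dihedral action
  let c : DihedralGroup 4 →* MulAut V := c₀.comp ((S : Subgroup N).subtype.comp e.symm.toMonoidHom)
  have htriv : ∀ (s : (S : Subgroup N)), ((s : N) : G) ∈ V → s = 1 := by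
    intro s hs
    have h1 : orderOf s ∣ 8 := hS8 ▸ orderOf_dvd_natCard s
    have h3 : s ^ 3 = 1 := Subtype.ext (Subtype.ext (by simpa using hMel _ hs))
    have h2 := orderOf_dvd_of_pow_eq_one h3
    exact orderOf_eq_one_iff.1 (Nat.eq_one_of_dvd_coprimes (show Nat.Coprime 8 3 by decide) h1 h2)
  have hcinj : Function.Injective c := by
    rw [injective_iff_map_eq_one]
    intro g hg
    have h1 : ((e.symm g : (S : Subgroup N)) : N) ∈ c₀.ker := hg
    rw [hker, Subgroup.mem_subgroupOf] at h1
    exact (map_eq_one_iff e.symm e.symm.injective).1 (htriv _ h1)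
  obtain ⟨ψ, hψ, hcompat⟩ := exists_basis (V := V) hM9 (fun x => Subtype.ext (hMel x x.2)) c hcinj
  let f₁ : Multiplicative Vec →* N := (Subgroup.inclusion hVN).comp ψ
  let f₂ : DihedralGroup 4 →* N := (S : Subgroup N).subtype.comp e.symm.toMonoidHom
  have hlift : ∀ g, f₁.comp (act g).toMonoidHom = (MulAut.conj (f₂ g)).toMonoidHom.comp f₁ := by
    intro g
    refine MonoidHom.ext fun w => Subtype.ext ?_
    show ((ψ (act g w) : V) : G) = ((f₂ g : N) : G) * (ψ w : V) * ((f₂ g : N) : G)⁻¹
    rw [hcompat]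
    rfl
  let Φ : M →* N := SemidirectProduct.lift f₁ f₂ hlift
  have hΦ : Function.Bijective Φ := by
    rw [Nat.bijective_iff_injective_and_card, injective_iff_map_eq_one]
    refine ⟨fun x hx => ?_, by rw [h72, Nat.card_eq_fintype_card, card_M]⟩
    have hx' : f₁ x.left * f₂ x.right = 1 := hx
    have hr : e.symm x.right = 1 := by
      refine htriv _ ?_
      have : ((f₂ x.right : N) : G) = ((ψ x.left : V) : G)⁻¹ := by
        have := congrArg (fun z : N => (z : G)) hx'
        exact eq_inv_of_mul_eq_one_right this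
      show ((f₂ x.right : N) : G) ∈ V
      rw [this]
      exact V.inv_mem (ψ x.left).2
    have hr1 : x.right = 1 := (map_eq_one_iff e.symm e.symm.injective).1 hr
    refine SemidirectProduct.ext (hψ.1 ?_) hr1
    rw [hr1, map_one, mul_one] at hx'
    rw [SemidirectProduct.one_left, map_one]
    exact Subtype.ext (congrArg (fun z : N => (z : G)) hx' : ((ψ x.left : V) : G) = 1)
  let φ : N ≃* M := (MulEquiv.ofBijective Φ hΦ).symm
  have hInV : ∀ j : N, InV (φ j) ↔ (j : G) ∈ V ∧ (j : G) ≠ 1 := by
    intro j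
    obtain ⟨x, rfl⟩ := hΦ.2 j
    rw [show φ (Φ x) = x from (MulEquiv.ofBijective Φ hΦ).symm_apply_apply x]
    have hΦx : ((Φ x : N) : G) = (ψ x.left : V) * ((f₂ x.right : N) : G) := rfl
    have hne : ((Φ x : N) : G) ≠ 1 ↔ x ≠ 1 := not_congr
      (OneMemClass.coe_eq_one.trans (map_eq_one_iff Φ hΦ.1))
    rw [hne, hΦx, InV, and_congr_left_iff]
    intro _
    refine ⟨fun hr => by rw [hr, map_one]; simp, fun hm => ?_⟩
    refine (map_eq_one_iff e.symm e.symm.injective).1 (htriv _ ?_)
    exact (Subgroup.mul_mem_cancel_left V (ψ x.left).2).1 hm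
  have hEmb : Emb N φ := by
    refine ⟨fun j hj => hCg _ ((hInV j).1 hj).1 ((hInV j).1 hj).2, fun g hg => ?_⟩
    refine Subgroup.mem_normalizer_iff_map_conj_eq.2 (Subgroup.eq_of_le_of_card_ge ?_ ?_)
    · rintro _ ⟨v, hv, rfl⟩
      by_cases hv1 : v = 1
      · subst hv1; simp
      · obtain ⟨j', hj', hj''⟩ := hg ⟨v, hVN hv⟩ ((hInV _).2 ⟨hv, hv1⟩)
        have := ((hInV j').1 hj').1
        rwa [hj''] at this
    · exact (Subgroup.card_map_of_injective (MulAut.conj g).injective).ge
  intro hsimple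
  obtain ⟨f, hf⟩ := hEmb.exists_hom_ne_one
  have hinj : Function.Injective f := by
    rw [← MonoidHom.ker_eq_bot_iff]
    exact (IsSimpleGroup.eq_bot_or_eq_top_of_normal f.ker inferInstance).resolve_right
      (mt MonoidHom.ker_eq_top_iff.1 hf)
  have hcomm : ∀ a b : G, a * b = b * a := fun a b => hinj (by rw [map_mul, map_mul, mul_comm])
  have hVtop : V = ⊤ := by
    rw [← hCM, eq_top_iff]
    exact fun g _ => Subgroup.mem_centralizer_iff.2 fun h _ => hcomm h g
  obtain ⟨x, hx, hx1⟩ := V.bot_or_exists_ne_one.resolve_left fun hb => by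
    rw [hb, Subgroup.card_bot] at hM9
    norm_num at hM9
  have hn : (Subgroup.zpowers x).Normal := ⟨fun a ha g => by rwa [hcomm g a, mul_inv_cancel_right]⟩
  have hx3 : Nat.card (Subgroup.zpowers x) = 3 := by
    rw [Nat.card_zpowers]
    exact orderOf_eq_prime (hMel x hx) hx1
  rcases hsimple.eq_bot_or_eq_top_of_normal _ hn with e | e
  · exact hx1 (Subgroup.zpowers_eq_bot.1 e)
  · rw [e, ← hVtop, hM9] at hx3
    norm_num at hx3

end CfsgLib.Char.NineDihedral
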