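import Cfsg.Agent.Lib.Char.NineDihedral.Emb
import Cfsg.Agent.Lib.Char.NineDihedral.Algebra
import Cfsg.Agent.Lib.Char.GramSearch.Basic

/-!
# An embedded `3²:D₈`: a non-principal constituent of degree one
-/

set_option autoImplicit false
set_option linter.unusedSectionVars false

namespace CfsgLib.Char.NineDihedral

open scoped ComplexConjugate
open Cfsg CfsgLib.Char CfsgLib.Char.Signed

universe u

variable {G : Type u} [Group G] [Fintype G]

local notation "gadd" => isGeneralizedCharacter_add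
local notation "gsub" => isGeneralizedCharacter_sub

theorem pm_of_iq_ne {y z : G → ℂ} (hy : Sg y) (hz : Sg z) (h : iq y z ≠ 0) : y = z ∨ y = -z := by
  rcases hy.iq_cases hz with e | ⟨-, e⟩ | ⟨-, e⟩
  · exact absurd e h
  · exact Or.inl e
  · exact Or.inr e

/-- A constituent of coefficient one in a sum of norm three. -/
theorem split_three {R y : G → ℂ} (hR : Gen R) (h3 : iq R R = 3) (hy : Sg y) (h1 : iq R y = 1) :
    ∃ a b, Sg a ∧ Sg b ∧ R = y + a + b := by
  have h2 : iq (R - y) (R - y) = 2 := by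
    rw [iq_sub_left hR hy.gen (gsub hR hy.gen), iq_sub_right hR hR hy.gen,
      iq_sub_right hy.gen hR hy.gen, h3, hy.iq_self, iq_comm hy.gen hR, h1]
    norm_num
  obtain ⟨a, b, ha, hb, -, e⟩ := exists_pair (gsub hR hy.gen) h2
  refine ⟨a, b, ha, hb, ?_⟩
  rw [← sub_add_cancel R y, e]
  abel

/-- A further constituent of coefficient one. -/
theorem split_two {R y z : G → ℂ} (hR : Gen R) (h3 : iq R R = 3) (hy : Sg y) (hz : Sg z)
    (hyz : iq y z = 0) (h1 : iq R y = 1) (h2 : iq R z = 1) : ∃ c, Sg c ∧ R = y + z + c := by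
  refine ⟨R - y - z, Sg.of_iq (gsub (gsub hR hy.gen) hz.gen) ?_, by abel⟩
  rw [iq_sub_left (gsub hR hy.gen) hz.gen (gsub (gsub hR hy.gen) hz.gen),
    iq_sub_left hR hy.gen (gsub (gsub hR hy.gen) hz.gen),
    iq_sub_right hR (gsub hR hy.gen) hz.gen, iq_sub_right hR hR hy.gen,
    iq_sub_right hy.gen (gsub hR hy.gen) hz.gen, iq_sub_right hy.gen hR hy.gen,
    iq_sub_right hz.gen (gsub hR hy.gen) hz.gen, iq_sub_right hz.gen hR hy.gen, h3, hy.iq_self,
    hz.iq_self, iq_comm hy.gen hR, iq_comm hz.gen hR, h1, h2, hyz, iq_comm hz.gen hy.gen, hyz]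
  norm_num

/-- Two sums of three signed irreducibles of equal degree and inner product one share exactly one. -/
theorem share {R R' : G → ℂ} (hR : Gen R) (hR' : Gen R') (h3 : iq R R = 3) (h3' : iq R' R' = 3)
    (h1 : iq R R' = 1) (hd : R 1 = R' 1) :
    ∃ y, Sg y ∧ iq R y = 1 ∧ iq R' y = 1 ∧
      ∀ z, Sg z → iq R z ≠ 0 → iq R' z ≠ 0 → z = y ∨ z = -y := by
  obtain ⟨pt, hpt, l, hl, hlen, he⟩ := GramSearch.exists_parts hR (by rw [h3]; norm_num)
  rw [h3, show GramSearch.parts 3 = [[1, 1, 1]] from rfl, List.mem_singleton] at hpt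
  subst hpt
  obtain ⟨a, b, c, rfl⟩ := List.length_eq_three.1 (hlen.symm.trans rfl)
  simp only [GramSearch.comb, Int.cast_one, one_smul, add_zero] at he
  obtain ⟨hsg, hp⟩ := hl
  simp only [List.pairwise_cons, List.mem_cons, List.not_mem_nil, or_false, forall_eq_or_imp,
    forall_eq, List.Pairwise.nil, and_true, false_implies, implies_true] at hp hsg
  obtain ⟨ha, hb, hc⟩ := hsg
  obtain ⟨⟨hab, hac⟩, hbc⟩ := hp
  have hR2 : R = a + (b + c) := he
  have hsum : iq a R' + iq b R' + iq c R' = 1 := by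
    rw [← h1, hR2, iq_add_left ha.gen (gadd hb.gen hc.gen) hR', iq_add_left hb.gen hc.gen hR']
    ring
  have hbes := (show Orth [a, b, c] from ⟨by simp [ha, hb, hc], by simp [hab, hac, hbc]⟩).bessel hR'
  simp only [List.map_cons, List.map_nil, List.sum_cons, List.sum_nil, add_zero, h3'] at hbes
  rw [iq_comm hR' ha.gen, iq_comm hR' hb.gen, iq_comm hR' hc.gen] at hbes
  -- the first element alone
  have main : ∀ a b c : G → ℂ, Sg a → Sg b → Sg c → iq a b = 0 → iq a c = 0 → iq b c = 0 →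
      R = a + (b + c) → iq a R' = 1 → iq b R' = 0 → iq c R' = 0 →
      ∃ y, Sg y ∧ iq R y = 1 ∧ iq R' y = 1 ∧
        ∀ z, Sg z → iq R z ≠ 0 → iq R' z ≠ 0 → z = y ∨ z = -y := by
    intro a b c ha hb hc hab hac hbc e h1' h2' h3''
    refine ⟨a, ha, ?_, by rw [iq_comm hR' ha.gen]; exact h1', fun z hz hz1 hz2 => ?_⟩
    · rw [e, iq_add_left ha.gen (gadd hb.gen hc.gen) ha.gen, iq_add_left hb.gen hc.gen ha.gen,
        ha.iq_self, iq_comm hb.gen ha.gen, hab, iq_comm hc.gen ha.gen, hac]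
      norm_num
    · rw [e, iq_add_left ha.gen (gadd hb.gen hc.gen) hz.gen, iq_add_left hb.gen hc.gen hz.gen] at hz1
      have hne : ∀ w, Sg w → iq w R' = 0 → iq w z = 0 := by
        intro w hw hw0
        by_contra hne
        rcases pm_of_iq_ne hw hz hne with rfl | rfl
        · exact hz2 (by rw [iq_comm hR' hw.gen]; exact hw0)
        · rw [iq_neg_left hz.gen hR', neg_eq_zero] at hw0
          exact hz2 (by rw [iq_comm hR' hz.gen]; exact hw0)
      rw [hne b hb h2', hne c hc h3'', add_zero, add_zero] at hz1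
      exact (pm_of_iq_ne hz ha (by rwa [iq_comm hz.gen ha.gen]))
  have bound : ∀ x y z : ℤ, x + y + z = 1 → x ^ 2 + (y ^ 2 + z ^ 2) ≤ 3 →
      (x = 1 ∧ y = 0 ∧ z = 0) ∨ (x = 0 ∧ y = 1 ∧ z = 0) ∨ (x = 0 ∧ y = 0 ∧ z = 1) ∨
      (x = -1 ∧ y = 1 ∧ z = 1) ∨ (x = 1 ∧ y = -1 ∧ z = 1) ∨ (x = 1 ∧ y = 1 ∧ z = -1) := by
    intro x y z h hle
    have hx1 : x ≤ 1 := by nlinarith
    have hx0 : -1 ≤ x := by nlinarith
    have hy1 : y ≤ 1 := by nlinarith
    have hy0 : -1 ≤ y := by nlinarith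
    obtain rfl : z = 1 - x - y := by omega
    interval_cases x <;> interval_cases y <;> simp_all
  -- two equal and one opposite
  have flip : ∀ a b c : G → ℂ, Sg a → Sg b → Sg c → iq a b = 0 → iq a c = 0 → iq b c = 0 →
      R = a + (b + c) → iq a R' = -1 → iq b R' = 1 → iq c R' = 1 → False := by
    intro a b c ha hb hc hab hac hbc e h1' h2' h3''
    have hg : Gen (b + c - a) := gsub (gadd hb.gen hc.gen) ha.gen
    have heq : R' = b + c - a := sub_eq_zero.1 (eq_zero_of_iq_self (gsub hR' hg) (by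
      rw [iq_sub_left hR' hg (gsub hR' hg), iq_sub_right hR' hR' hg, iq_sub_right hg hR' hg, h3',
        iq_comm hg hR', iq_sub_right hR' (gadd hb.gen hc.gen) ha.gen,
        iq_add_right hR' hb.gen hc.gen, iq_comm hR' hb.gen, iq_comm hR' hc.gen, iq_comm hR' ha.gen,
        h1', h2', h3'', iq_sub_left (gadd hb.gen hc.gen) ha.gen hg,
        iq_sub_right (gadd hb.gen hc.gen) (gadd hb.gen hc.gen) ha.gen,
        iq_sub_right ha.gen (gadd hb.gen hc.gen) ha.gen,
        iq_add_left hb.gen hc.gen (gadd hb.gen hc.gen), iq_add_left hb.gen hc.gen ha.gen,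
        iq_add_right hb.gen hb.gen hc.gen, iq_add_right hc.gen hb.gen hc.gen,
        iq_add_right ha.gen hb.gen hc.gen, hb.iq_self, hc.iq_self, ha.iq_self, hab, hac, hbc,
        iq_comm hb.gen ha.gen, hab, iq_comm hc.gen ha.gen, hac, iq_comm hc.gen hb.gen, hbc]
      norm_num))
    rw [e, heq] at hd
    simp only [Pi.add_apply, Pi.sub_apply] at hd
    exact ha.apply_one_ne (by linear_combination hd / 2)
  rcases bound _ _ _ hsum hbes with ⟨x, y, z⟩ | ⟨x, y, z⟩ | ⟨x, y, z⟩ | ⟨x, y, z⟩ | ⟨x, y, z⟩ |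
    ⟨x, y, z⟩
  · exact main a b c ha hb hc hab hac hbc hR2 x y z
  · exact main b a c hb ha hc (by rw [iq_comm hb.gen ha.gen]; exact hab) hbc hac
      (by rw [hR2]; abel) y x z
  · exact main c a b hc ha hb (by rw [iq_comm hc.gen ha.gen]; exact hac)
      (by rw [iq_comm hc.gen hb.gen]; exact hbc) hab (by rw [hR2]; abel) z x y
  · exact (flip a b c ha hb hc hab hac hbc hR2 x y z).elim
  · exact (flip b a c hb ha hc (by rw [iq_comm hb.gen ha.gen]; exact hab) hbc hac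
      (by rw [hR2]; abel) y x z).elim
  · exact (flip c a b hc ha hb (by rw [iq_comm hc.gen ha.gen]; exact hac)
      (by rw [iq_comm hc.gen hb.gen]; exact hbc) hab (by rw [hR2]; abel) z x y).elim

variable {H : Subgroup G} {φ : H ≃* M}

theorem sg_unit : Sg (fun _ : G => (1 : ℂ)) := Sg.of_irr ⟨_, isIrrCharacter_one⟩

/-- The non-trivial part of the lattice. -/
noncomputable def Rv (φ : H ≃* M) (i : Fin 4) : G → ℂ := Fv φ i - fun _ => 1

theorem Rv_gen (φ : H ≃* M) (i : Fin 4) : Gen (Rv φ i) := gsub (Fv_gen φ i) sg_unit.gen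

theorem Rv_sq (φ : H ≃* M) (i : Fin 4) {g : G} (hg : g * g = 1) : Rv φ i g = -1 := by
  simp [Rv, Fv_sq φ i hg]

theorem Rv_one_right (φ : H ≃* M) (i : Fin 4) : iq (Rv φ i) (fun _ : G => (1 : ℂ)) = 0 := by
  rw [Rv, iq_sub_left (Fv_gen φ i) sg_unit.gen sg_unit.gen, iq_Fv_one, sg_unit.iq_self, sub_self]

theorem Emb.iq_Rv (e : Emb H φ) (i j : Fin 4) : iq (Rv φ i) (Rv φ j) = gram i j - 1 := by
  rw [show iq (Rv φ i) (Rv φ j) = iq (Rv φ i) (Fv φ j) - iq (Rv φ i) (fun _ : G => (1 : ℂ)) from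
      iq_sub_right (Rv_gen φ i) (Fv_gen φ j) sg_unit.gen,
    Rv_one_right, sub_zero, Rv, iq_sub_left (Fv_gen φ i) sg_unit.gen (Fv_gen φ j), e.iq_Fv,
    iq_comm sg_unit.gen (Fv_gen φ j), iq_Fv_one]

theorem Emb.share_Rv (e : Emb H φ) {i j : Fin 4} (h : gram i j = 2) :
    ∃ y, Sg y ∧ iq (Rv φ i) y = 1 ∧ iq (Rv φ j) y = 1 ∧
      ∀ z, Sg z → iq (Rv φ i) z ≠ 0 → iq (Rv φ j) z ≠ 0 → z = y ∨ z = -y := by
  have h4 : ∀ k, gram k k = 4 := by decide
  refine share (Rv_gen φ i) (Rv_gen φ j) (by rw [e.iq_Rv, h4]; norm_num)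
    (by rw [e.iq_Rv, h4]; norm_num) (by rw [e.iq_Rv, h]; norm_num) ?_
  rw [Rv_sq φ i (mul_one 1), Rv_sq φ j (mul_one 1)]

theorem ne_principal (φ : H ≃* M) {i : Fin 4} {y : G → ℂ} (hy : Sg y) (h : iq (Rv φ i) y ≠ 0) :
    y ≠ (fun _ => 1) ∧ y ≠ -(fun _ => 1) := by
  refine ⟨fun e => h (e ▸ Rv_one_right φ i), fun e => h ?_⟩
  rw [e, iq_neg_right (Rv_gen φ i) sg_unit.gen, Rv_one_right, neg_zero]

theorem iq_Fv_of_ne (φ : H ≃* M) (i : Fin 4) {j : Fin 4} {y : G → ℂ} (hy : Sg y)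
    (h : iq (Rv φ j) y ≠ 0) : iq (Fv φ i) y = iq (Rv φ i) y := by
  obtain ⟨n1, n2⟩ := ne_principal φ hy h
  have h0 : iq (fun _ : G => (1 : ℂ)) y = 0 := by
    rcases sg_unit.iq_cases hy with e | ⟨-, e⟩ | ⟨-, e⟩
    · exact e
    · exact absurd e.symm n1
    · exact absurd (by rw [e, neg_neg]) n2
  rw [Rv, iq_sub_left (Fv_gen φ i) sg_unit.gen hy.gen, h0, sub_zero]

/-- The value shifted by the degree. -/
def shift (y : G → ℂ) (g : G) : ℂ := y g - y 1

theorem form_eq (φ : H ≃* M) {k : Fin 4} {y a b : G → ℂ} (hy : Sg y) (ha : Sg a) (hb : Sg b)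
    (he : Rv φ k = y + a + b) {g g' : G} (hg : g * g = 1) (hg' : g' * g' = 1) :
    y 1 + a 1 + b 1 = -1 ∧ shift y g + shift a g + shift b g = 0 ∧
      form (y 1) (a 1) (b 1) (shift y g) (shift a g) (shift b g) (shift y g') (shift a g') (shift b g')
        = ThreeSFour.qfun2 g g' (Fv φ k) := by
  have s1 := Rv_sq φ k (mul_one (1 : G))
  have sg := Rv_sq φ k hg
  have sg' := Rv_sq φ k hg'
  rw [he] at s1 sg sg'
  simp only [Pi.add_apply] at s1 sg sg'
  refine ⟨s1, by simp only [shift]; linear_combination sg - s1, ?_⟩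
  have hF : Fv φ k = y + a + b + fun _ => 1 := by rw [← he, Rv, sub_add_cancel]
  rw [hF, ThreeSFour.qfun2_add, ThreeSFour.qfun2_add, ThreeSFour.qfun2_add,
    ThreeSFour.qfun2_sg _ _ hy, ThreeSFour.qfun2_sg _ _ ha, ThreeSFour.qfun2_sg _ _ hb,
    ThreeSFour.qfun2_sg _ _ sg_unit]
  have n1 := hy.apply_one_ne
  have n2 := ha.apply_one_ne
  have n3 := hb.apply_one_ne
  simp only [form, shift]
  field_simp
  linear_combination (y 1 * a 1 * b 1) * (s1 - sg - sg')

end CfsgLib.Char.NineDihedral
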