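import Cfsg.Agent.Lib.Char.NineDihedral.Model
import Cfsg.Agent.Lib.Char.ThreeSFour.Induced
import Mathlib.Algebra.Group.Subgroup.Finite

/-!
# An embedded `3²:D₈` with centralizers of the translations inside: the induced lattice
-/

set_option autoImplicit false
set_option linter.unusedSectionVars false

namespace CfsgLib.Char.NineDihedral

open scoped ComplexConjugate
open Cfsg CfsgLib.Char CfsgLib.Char.Signed

universe u

theorem cls_card' (c : Fin 9) :
    (((Finset.univ.filter fun x : M => clsOf x = c).card : ℕ) : ℂ) = (size c : ℂ) := by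
  rw [← cls_card c, Int.cast_natCast]

theorem sum_cls (f : Fin 9 → ℂ) : ∑ x : M, f (clsOf x) = ∑ c, (size c : ℂ) * f c := by
  rw [← Finset.sum_fiberwise Finset.univ clsOf (fun x => f (clsOf x))]
  refine Finset.sum_congr rfl fun c _ => ?_
  rw [Finset.sum_congr rfl (g := fun _ => f c) fun x hx => by rw [(Finset.mem_filter.1 hx).2],
    Finset.sum_const, nsmul_eq_mul, cls_card']

theorem clsOf_eq_imp {x y : M} (h : clsOf x = clsOf y) : ∃ w : M, w * x * w⁻¹ = y := by
  obtain ⟨a, ha⟩ := exists_conj_rep x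
  obtain ⟨b, hb⟩ := exists_conj_rep y
  refine ⟨b * a⁻¹, ?_⟩
  rw [← hb, ← h]
  conv_lhs => rw [← ha]
  group

/-- A function with the values of a class vector. -/
noncomputable def clFun (f : Fin 9 → ℤ) : M → ℂ := fun x => (f (clsOf x) : ℂ)

theorem classInner_clFun (f g : Fin 9 → ℤ) :
    classInner (clFun f) (clFun g) = ((∑ c, size c * (f c * g c) : ℤ) : ℂ) / 72 := by
  simp only [classInner, clFun, map_intCast]
  rw [sum_cls (fun c => (f c : ℂ) * (g c : ℂ)), Nat.card_eq_fintype_card, card_M, div_eq_inv_mul]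
  push_cast
  ring

/-- A permutation character. -/
theorem gen_perm (K : M → Bool) (p : Fin 9 → ℤ)
    (hK : K 1 = true ∧ ∀ x y : M, K x = true → K y = true → K (x * y) = true ∧ K x⁻¹ = true)
    (hp : ∀ c, hits K (repM c) = ((Finset.univ.filter fun y : M => K y).card : ℤ) * p c) :
    IsGeneralizedCharacter M (clFun p) := by
  classical
  let S : Subgroup M :=
    { carrier := {x | K x = true}
      one_mem' := hK.1
      mul_mem' := fun ha hb => (hK.2 _ _ ha hb).1
      inv_mem' := fun ha => (hK.2 _ _ ha ha).2 }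
  have hgen : IsGeneralizedCharacter M (indFun S fun _ => 1) :=
    isGeneralizedCharacter_of_isCharacter
      (isCharacter_indFun S (isCharacter_of_isIrr isIrrCharacter_one))
  have hS : (Nat.card S : ℂ) = (((Finset.univ.filter fun y : M => K y).card : ℤ) : ℂ) := by
    rw [Int.cast_natCast, Nat.card_eq_fintype_card, Fintype.card_subtype]
    congr 2
    exact Finset.filter_congr fun x _ => Iff.rfl
  have heq : clFun p = indFun S fun _ => 1 := by
    funext x
    obtain ⟨w, hw⟩ := exists_conj_rep x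
    conv_rhs => rw [← hw]
    rw [isClassFunction_indFun S _ (repM (clsOf x)) w, indFun]
    have hterm : ∀ y : M, extendByZero S (fun _ => (1 : ℂ)) y = if K y then 1 else 0 := by
      intro y
      split_ifs with h
      · exact extendByZero_mem S _ h
      · exact extendByZero_not_mem S _ h
    simp only [hterm, Finset.sum_boole]
    have h := congrArg (fun z : ℤ => (z : ℂ)) (hp (clsOf x))
    simp only [hits, Int.cast_natCast, Int.cast_mul] at h
    rw [Int.cast_natCast] at hS
    rw [h, ← hS, ← mul_assoc, inv_mul_cancel₀ (by exact_mod_cast Nat.card_pos.ne'), one_mul]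
    rfl
  exact heq ▸ hgen

/-- A linear character. -/
theorem gen_lin (p : Fin 9 → ℤ) (h1 : p (clsOf 1) = 1)
    (hm : ∀ x y : M, p (clsOf (x * y)) = p (clsOf x) * p (clsOf y)) :
    IsGeneralizedCharacter M (clFun p) := by
  let χ : M →* ℂ :=
    { toFun := clFun p
      map_one' := by simp [clFun, h1]
      map_mul' := fun x y => by simp [clFun, hm] }
  exact isGeneralizedCharacter_of_isCharacter
    (isCharacter_of_isIrr (isIrrCharacter_lin χ.toHomUnits))

theorem vfun_gen : ∀ i, IsGeneralizedCharacter M (clFun (vval i)) := by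
  have g4 := gen_perm in4 pi4 in4_subgroup fun c => (perm_count c).1
  have g6 := gen_perm in6 pi6 in6_subgroup fun c => (perm_count c).2.1
  have g9 := gen_perm in9 pi9 in9_subgroup fun c => (perm_count c).2.2
  have gP := gen_lin chP (by decide +kernel) fun x y => (lin_hom x y).1
  have gD := gen_lin chD (by decide +kernel) fun x y => (lin_hom x y).2
  have gu : IsGeneralizedCharacter M fun _ : M => (1 : ℂ) :=
    isGeneralizedCharacter_of_isCharacter (isCharacter_of_isIrr isIrrCharacter_one)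
  have add := fun {f g : M → ℂ} (hf : IsGeneralizedCharacter M f) (hg : IsGeneralizedCharacter M g) =>
    isGeneralizedCharacter_add hf hg
  have sub := fun {f g : M → ℂ} (hf : IsGeneralizedCharacter M f) (hg : IsGeneralizedCharacter M g) =>
    isGeneralizedCharacter_sub hf hg
  have mul := fun {f g : M → ℂ} (hf : IsGeneralizedCharacter M f) (hg : IsGeneralizedCharacter M g) =>
    isGeneralizedCharacter_mul hf hg
  intro i
  fin_cases i
  · convert add (add (sub g4 g6) gu) gP using 1
    funext x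
    simp [clFun, (vval_eq _).1]
  · convert sub (add (add (sub g4 (add gP gP)) gD) g6) g9 using 1
    funext x
    simp [clFun, (vval_eq _).2.1]
    ring
  · convert sub (add (sub (sub (add (add gu (add gu gu)) gP) (mul gP gD)) g6) (mul gP g9)) (mul gP g6)
      using 1
    funext x
    simp [clFun, (vval_eq _).2.2.1]
    ring
  · convert sub (add (sub (add (sub (sub gu (add (mul gP gD) (mul gP gD))) gD) (mul gD g6)) g9) g6) gP
      using 1
    funext x
    simp [clFun, (vval_eq _).2.2.2]
    ring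

/-! ### The embedding -/

variable {G : Type u} [Group G] [Finite G]

/-- The hypotheses. -/
structure Emb (H : Subgroup G) (φ : H ≃* M) : Prop where
  cent : ∀ h : H, InV (φ h) → Subgroup.centralizer ({(h : G)} : Set G) ≤ H
  norm : ∀ g : G, (∀ j : H, InV (φ j) → ∃ j' : H, InV (φ j') ∧ (j' : G) = g * j * g⁻¹) → g ∈ H

theorem InV.conj {x : M} (h : InV x) (y : M) : InV (y * x * y⁻¹) := by
  rw [InV_cls, cls_conj, ← InV_cls]; exact h

theorem cube_InV : ∀ x : M, x * x * x = 1 → x ≠ 1 → InV x := by decide +kernel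

theorem InV_cube : ∀ x : M, InV x → x * x * x = 1 := by decide +kernel

theorem InV_comm : ∀ x y : M, InV x → InV y → x * y = y * x := by decide +kernel

variable {H : Subgroup G} {φ : H ≃* M}

theorem Emb.mem_of_conj_mem (e : Emb H φ) {g : G} {j : H} (hj : InV (φ j)) (h : g * j * g⁻¹ ∈ H) :
    g ∈ H := by
  have tr : ∀ {i : H}, InV (φ i) → ∀ (hi : g * i * g⁻¹ ∈ H), InV (φ ⟨_, hi⟩) := by
    intro i hi' hi
    refine cube_InV _ ?_ fun h1 => ?_
    · rw [← map_mul, ← map_mul, map_eq_one_iff φ φ.injective]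
      refine Subtype.ext ?_
      show g * i * g⁻¹ * (g * i * g⁻¹) * (g * i * g⁻¹) = 1
      have h3 : i * i * i = 1 := φ.injective (by rw [map_mul, map_mul, InV_cube _ hi', map_one])
      have h3' : (i : G) * i * i = 1 := congrArg Subtype.val h3
      rw [show g * i * g⁻¹ * (g * i * g⁻¹) * (g * i * g⁻¹) = g * (i * i * i) * g⁻¹ by group, h3']
      group
    · refine hi'.2 ?_
      have h2 : g * i * g⁻¹ = 1 := congrArg Subtype.val ((map_eq_one_iff φ φ.injective).1 h1)
      rw [show i = 1 from Subtype.ext (conj_eq_one_iff.1 h2), map_one]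
  refine e.norm g fun i hi => ?_
  have hci : g * i * g⁻¹ ∈ H := by
    refine e.cent _ (tr hj h) (Subgroup.mem_centralizer_singleton_iff.2 ?_)
    have hc : i * j = j * i := φ.injective (by rw [map_mul, map_mul, InV_comm _ _ hi hj])
    have hc' : (i : G) * j = j * i := congrArg Subtype.val hc
    show g * i * g⁻¹ * (g * j * g⁻¹) = g * j * g⁻¹ * (g * i * g⁻¹)
    rw [show g * i * g⁻¹ * (g * j * g⁻¹) = g * (i * j) * g⁻¹ by group, hc']
    group
  exact ⟨⟨_, hci⟩, tr hi hci, rfl⟩

theorem Emb.mem_of_conj_supp (e : Emb H φ) {g : G} {x x' : H} (hx : 4 < (clsOf (φ x)).val)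
    (h : g * x * g⁻¹ = (x' : G)) : g ∈ H := by
  rcases pow_mem_V (φ x) hx with h' | h'
  · rw [← map_mul] at h'
    refine e.mem_of_conj_mem h' ?_
    rw [Subgroup.coe_mul, show g * ((x : G) * x) * g⁻¹ = g * x * g⁻¹ * (g * x * g⁻¹) by group, h]
    exact H.mul_mem x'.2 x'.2
  · refine e.mem_of_conj_mem h' ?_
    rw [h]
    exact x'.2

theorem Emb.mem_of_inverted (e : Emb H φ) {y : G} {x : H} (hx : 4 < (clsOf (φ x)).val)
    (h : y * x * y⁻¹ = (x : G)⁻¹) : y ∈ H :=
  e.mem_of_conj_supp (x' := x⁻¹) hx (by simpa using h)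

theorem Emb.comp_swap (e : Emb H φ) (σ : M ≃* M) (hσ : ∀ x, InV (σ x) ↔ InV x) :
    Emb H (φ.trans σ) :=
  ⟨fun h hh => e.cent h ((hσ _).1 hh), fun g hg => e.norm g fun j hj => by
    obtain ⟨j', hj', hj''⟩ := hg j ((hσ _).2 hj)
    exact ⟨j', (hσ _).1 hj', hj''⟩⟩

/-- An element of `H` for an element of the model. -/
noncomputable def Emb.el (_e : Emb H φ) (m : M) : G := ((φ.symm m : H) : G)

theorem Emb.el_mul (e : Emb H φ) (a b : M) : e.el (a * b) = e.el a * e.el b := by
  simp [Emb.el]

theorem Emb.el_inj (e : Emb H φ) {a b : M} (h : e.el a = e.el b) : a = b :=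
  φ.symm.injective (Subtype.ext h)

/-- The two kinds of reflections are not conjugate. -/
theorem Emb.not_conj (e : Emb H φ) : ¬ IsConj (e.el (invC 1)) (e.el (invC 2)) := by
  intro hc
  obtain ⟨g, hg⟩ := isConj_iff.1 hc
  obtain ⟨hu0, hu1, hc0, hc1, hcA, hcB, h3A, h3B, -⟩ := uR_spec
  have : Fact (Nat.Prime 3) := ⟨Nat.prime_three⟩
  set b := e.el (invC 2) with hb
  set C := Subgroup.centralizer ({b} : Set G) with hC
  set u := e.el (uR 1) with hu
  set u' := g * e.el (uR 0) * g⁻¹ with hu'
  have hmem : ∀ {m m' : M}, m * m' = m' * m → e.el m * e.el m' = e.el m' * e.el m := fun {m m'} h => by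
    rw [← e.el_mul, ← e.el_mul, h]
  have hpow3 : ∀ {m : M}, m * m * m = 1 → e.el m ^ 3 = 1 := fun {m} h => by
    rw [pow_three, ← mul_assoc, ← e.el_mul, ← e.el_mul, h]
    simp [Emb.el]
  have huC : u ∈ C := Subgroup.mem_centralizer_singleton_iff.2 (hmem hcB)
  have hu'C : u' ∈ C := by
    refine Subgroup.mem_centralizer_singleton_iff.2 ?_
    rw [hu', ← hg, show g * e.el (uR 0) * g⁻¹ * (g * e.el (invC 1) * g⁻¹) =
      g * (e.el (uR 0) * e.el (invC 1)) * g⁻¹ by group, hmem hcA]
    group
  have hp : ∀ {w : C}, w ^ 3 = 1 → IsPGroup 3 (Subgroup.zpowers w) := fun {w} hw z => by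
    obtain ⟨z, i, rfl⟩ := z
    exact ⟨1, Subtype.ext (by
      simp only [Subgroup.coe_pow, pow_one, OneMemClass.coe_one]
      rw [← zpow_natCast (w ^ i) 3, ← zpow_mul, mul_comm i, zpow_mul, zpow_natCast, hw, one_zpow])⟩
  have h3u : (⟨u, huC⟩ : C) ^ 3 = 1 := Subtype.ext (hpow3 h3B)
  have h3u' : (⟨u', hu'C⟩ : C) ^ 3 = 1 := Subtype.ext (by
    simp only [Subgroup.coe_pow, hu', conj_pow, hpow3 h3A, OneMemClass.coe_one]
    group)
  obtain ⟨S, hS⟩ := (hp h3u).exists_le_sylow
  obtain ⟨S', hS'⟩ := (hp h3u').exists_le_sylow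
  have huS : (⟨u, huC⟩ : C) ∈ (S : Subgroup C) := hS (Subgroup.mem_zpowers _)
  have hu'S : (⟨u', hu'C⟩ : C) ∈ (S' : Subgroup C) := hS' (Subgroup.mem_zpowers _)
  have hinH : ∀ z : C, z ∈ (S : Subgroup C) → (z : G) * u = u * z →
      (z : G) = 1 ∨ (z : G) = u ∨ (z : G) = u * u := by
    intro z hz hzu
    have hzH : (z : G) ∈ H := e.cent (φ.symm (uR 1)) (by simpa using hu1)
      (Subgroup.mem_centralizer_singleton_iff.2 hzu)
    set m := φ ⟨z, hzH⟩ with hm
    have hzm : (z : G) = e.el m := by simp [Emb.el, hm]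
    have hcb : m * invC 2 = invC 2 * m := e.el_inj (by
      rw [e.el_mul, e.el_mul, ← hzm]
      exact Subgroup.mem_centralizer_singleton_iff.1 z.2)
    have hcu : m * uR 1 = uR 1 * m := e.el_inj (by rw [e.el_mul, e.el_mul, ← hzm]; exact hzu)
    have h9 : m ^ 9 = 1 := by
      obtain ⟨n, hn⟩ := S.isPGroup' ⟨z, hz⟩
      have hzn : z ^ (3 ^ n) = 1 := by simpa using congrArg Subtype.val hn
      have h1 : m ^ (3 ^ n) = 1 := by
        rw [hm, ← map_pow, map_eq_one_iff φ φ.injective]
        exact Subtype.ext (by simpa using congrArg Subtype.val hzn)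
      have h2 : m ^ 72 = 1 := by rw [← card_M]; exact pow_card_eq_one
      obtain ⟨i, hi, hi'⟩ := (Nat.dvd_prime_pow Nat.prime_three).1 (orderOf_dvd_of_pow_eq_one h1)
      have h3 := orderOf_dvd_of_pow_eq_one h2
      rw [hi'] at h3
      refine orderOf_dvd_iff_pow_eq_one.1 ?_
      rw [hi', show 9 = 3 ^ 2 from rfl]
      refine Nat.pow_dvd_pow 3 ?_
      by_contra hlt
      exact absurd ((pow_dvd_pow 3 (show 3 ≤ i by omega)).trans h3) (by norm_num)
    rcases three_fix m hcb hcu h9 with h | h | h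
    · exact Or.inl (by rw [hzm, h]; simp [Emb.el])
    · exact Or.inr (Or.inl (by rw [hzm, h]))
    · exact Or.inr (Or.inr (by rw [hzm, h, e.el_mul]))
  have hu1' : u ≠ 1 := fun h => hu1.2 (e.el_inj (h.trans (by simp [Emb.el])))
  have hSnt : Nontrivial (S : Subgroup C) :=
    ⟨⟨⟨_, huS⟩, 1, fun h => hu1' (congrArg (fun z : (S : Subgroup C) => ((z : C) : G)) h)⟩⟩
  obtain ⟨z, hz, hz1⟩ := (Subgroup.nontrivial_iff_exists_ne_one _).1 S.isPGroup'.center_nontrivial
  have hzc : ∀ y : (S : Subgroup C), ((y : C) : G) * ((z : C) : G) = ((z : C) : G) * ((y : C) : G) :=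
    fun y => congrArg (fun t : (S : Subgroup C) => ((t : C) : G)) (Subgroup.mem_center_iff.1 hz y)
  have hall : ∀ y : C, y ∈ (S : Subgroup C) → (y : G) = 1 ∨ (y : G) = u ∨ (y : G) = u * u := by
    intro y hy
    have hzu := hinH z z.2 (hzc ⟨_, huS⟩).symm
    refine hinH y hy ?_
    have hyz := hzc ⟨y, hy⟩
    simp only at hyz
    rcases hzu with h | h | h
    · exact absurd (Subtype.ext (Subtype.ext h)) hz1
    · rwa [h] at hyz
    · have h4 : u * u * (u * u) = u := by
        have : u * (u * u) = 1 := by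
          have := hpow3 h3B
          rwa [pow_three] at this
        rw [show u * u * (u * u) = u * (u * u) * u by group, this, one_mul]
      rw [h] at hyz
      calc (y : G) * u = y * (u * u) * (u * u) := by rw [mul_assoc, h4]
        _ = u * u * y * (u * u) := by rw [hyz]
        _ = u * u * (u * u * y) := by rw [mul_assoc, hyz]
        _ = u * y := by rw [← mul_assoc, h4]
  obtain ⟨c, hc'⟩ := MulAction.exists_smul_eq C S' S
  have hcu : c * ⟨u', hu'C⟩ * c⁻¹ ∈ (S : Subgroup C) := by
    rw [← hc', Sylow.coe_subgroup_smul]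
    exact ⟨_, hu'S, rfl⟩
  have hcg : ((c : G) * g) * ((φ.symm (uR 0) : H) : G) * ((c : G) * g)⁻¹ =
      ((c * ⟨u', hu'C⟩ * c⁻¹ : C) : G) := by
    simp only [hu', Emb.el, Subgroup.coe_mul, Subgroup.coe_inv]
    group
  have hgH : (c : G) * g ∈ H := by
    refine e.mem_of_conj_mem (j := φ.symm (uR 0)) (by simpa using hu0) ?_
    rw [hcg]
    rcases hall _ hcu with h | h | h <;> rw [h]
    · exact H.one_mem
    · exact (φ.symm (uR 1)).2
    · exact H.mul_mem (φ.symm (uR 1)).2 (φ.symm (uR 1)).2
  have hfin : clsOf (invC 2) = clsOf (invC 1) := by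
    have e1 : (⟨_, hgH⟩ : H) * φ.symm (invC 1) * (⟨_, hgH⟩ : H)⁻¹ = φ.symm (invC 2) := by
      refine Subtype.ext ?_
      have hcb : (c : G) * b = b * c := Subgroup.mem_centralizer_singleton_iff.1 c.2
      show (c : G) * g * e.el (invC 1) * ((c : G) * g)⁻¹ = b
      rw [show (c : G) * g * e.el (invC 1) * ((c : G) * g)⁻¹ =
        (c : G) * (g * e.el (invC 1) * g⁻¹) * (c : G)⁻¹ by group, hg, hcb, mul_inv_cancel_right]
    have e2 := congrArg (fun t : H => clsOf (φ t)) e1
    simpa [cls_conj] using e2.symm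
  rw [(invC_spec 1).2.1, (invC_spec 2).2.1] at hfin
  exact absurd hfin (by decide)

/-! ### The induced functions -/

/-- A function of the model on `H`. -/
noncomputable def pullM (φ : H ≃* M) (f : Fin 9 → ℤ) : H → ℂ := fun x => clFun f (φ x)

theorem classInner_pullM [Fintype H] (φ : H ≃* M) (f g : Fin 9 → ℤ) :
    classInner (pullM φ f) (pullM φ g) = classInner (clFun f) (clFun g) := by
  simp only [classInner, pullM, Nat.card_congr φ.toEquiv]
  congr 1
  exact Fintype.sum_equiv φ.toEquiv _ _ fun x => rfl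

variable [Fintype G]

theorem Emb.indFun_supp (e : Emb H φ) (i : Fin 4) {x : H} (hx : 4 < (clsOf (φ x)).val) :
    indFun H (pullM φ (vval i)) x = pullM φ (vval i) x := by
  classical
  have h1 : ∀ y : G, y ∉ H → extendByZero H (pullM φ (vval i)) (y⁻¹ * x * y) = 0 := by
    intro y hy
    by_cases hm : y⁻¹ * (x : G) * y ∈ H
    · refine absurd ?_ hy
      have := e.mem_of_conj_supp (g := y⁻¹) (x' := ⟨_, hm⟩) hx (by simp)
      simpa using H.inv_mem this
    · exact extendByZero_not_mem H _ hm
  have h2 : ∀ y : G, y ∈ H → extendByZero H (pullM φ (vval i)) (y⁻¹ * x * y) = pullM φ (vval i) x := by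
    intro y hy
    rw [extendByZero_mem H _ (H.mul_mem (H.mul_mem (H.inv_mem hy) x.2) hy)]
    rw [show (⟨y⁻¹ * x * y, _⟩ : H) = (⟨y, hy⟩ : H)⁻¹ * x * (⟨y, hy⟩ : H)⁻¹⁻¹ from
      Subtype.ext (by simp)]
    simp only [pullM, clFun, map_mul, map_inv, cls_conj]
  rw [indFun, Finset.sum_congr rfl (g := fun y => if y ∈ H then pullM φ (vval i) x else 0)
    fun y _ => by
      split_ifs with hy
      · exact h2 y hy
      · exact h1 y hy]
  rw [← Finset.sum_filter, Finset.sum_const, nsmul_eq_mul, ← Fintype.card_subtype,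
    ← Nat.card_eq_fintype_card, ← mul_assoc, inv_mul_cancel₀ (by exact_mod_cast Nat.card_pos.ne'),
    one_mul]

/-- The induced lattice. -/
noncomputable def Fv (φ : H ≃* M) (i : Fin 4) : G → ℂ := indFun H (pullM φ (vval i))

theorem Fv_gen (φ : H ≃* M) (i : Fin 4) : Gen (Fv φ i) :=
  isGeneralizedCharacter_indFun H (isGeneralizedCharacter_comp (vfun_gen i) φ.toMonoidHom)

theorem Fv_sq (φ : H ≃* M) (i : Fin 4) {g : G} (hg : g * g = 1) : Fv φ i g = 0 := by
  rw [Fv, indFun, Finset.sum_eq_zero, mul_zero]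
  intro y _
  by_cases hm : y⁻¹ * g * y ∈ H
  · rw [extendByZero_mem H _ hm]
    have e1 : φ ⟨_, hm⟩ * φ ⟨_, hm⟩ = 1 := by
      rw [← map_mul, map_eq_one_iff φ φ.injective]
      refine Subtype.ext ?_
      show y⁻¹ * g * y * (y⁻¹ * g * y) = 1
      rw [show y⁻¹ * g * y * (y⁻¹ * g * y) = y⁻¹ * (g * g) * y by group, hg]
      group
    have : (clsOf (φ ⟨_, hm⟩)).val ≤ 4 := by
      rcases invol_cls _ e1 with h | h | h | h <;> rw [h] <;> decide
    simp [pullM, clFun, vval_supp i _ this]
  · exact extendByZero_not_mem H _ hm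

theorem Emb.iq_Fv (e : Emb H φ) (i j : Fin 4) : iq (Fv φ i) (Fv φ j) = gram i j := by
  have := Fintype.ofFinite H
  refine iq_eq _ ?_
  rw [Fv, classInner_indFun H _ _ (isClassFunction_of_isGeneralized (Fv_gen φ j))]
  have h : ((∑ c, size c * (vval i c * vval j c) : ℤ) : ℂ) / 72 = gram i j := by
    rw [gram_eq]; push_cast; ring
  rw [← h, ← classInner_clFun, ← classInner_pullM φ]
  simp only [classInner]
  congr 1
  refine Finset.sum_congr rfl fun x _ => ?_
  by_cases hx : (clsOf (φ x)).val ≤ 4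
  · simp [pullM, clFun, vval_supp i _ hx]
  · congr 2
    exact e.indFun_supp j (Nat.lt_of_not_le hx)

theorem iq_Fv_one (φ : H ≃* M) (i : Fin 4) : iq (Fv φ i) (fun _ : G => (1 : ℂ)) = 1 := by
  have := Fintype.ofFinite H
  refine iq_eq _ ?_
  rw [Fv, classInner_indFun H _ _ fun _ _ => rfl]
  have h : classInner (clFun (vval i)) (clFun fun _ => 1) = 1 := by
    rw [classInner_clFun]
    simp only [mul_one]
    rw [trivial_eq]
    norm_num
  rw [Int.cast_one]
  refine Eq.trans ?_ ((classInner_pullM φ _ _).trans h)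
  congr 1
  funext x
  simp [pullM, clFun]

/-- The congruence for the degree of an arbitrary virtual character. -/
theorem degree_congr (φ : H ≃* M) {X : G → ℂ} (hX : Gen X) :
    ∃ m : ℤ, X 1 + (4 * (2 * iq (Fv φ 0) X + 2 * iq (Fv φ 1) X - iq (Fv φ 2) X - iq (Fv φ 3) X) : ℤ)
      = 9 * m := by
  classical
  have := Fintype.ofFinite H
  let θ : M → ℂ := fun x => X ((φ.symm x : H) : G)
  have hθ : IsGeneralizedCharacter M θ :=
    isGeneralizedCharacter_comp hX (H.subtype.comp φ.symm.toMonoidHom)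
  have hiq : ∀ i, (iq (Fv φ i) X : ℂ) = (Nat.card M : ℂ)⁻¹ * ∑ x, clFun (vval i) x * conj (θ x) := by
    intro i
    rw [← iq_spec (Fv_gen φ i) hX, Fv, classInner_indFun H _ _ (isClassFunction_of_isGeneralized hX)]
    simp only [classInner, Nat.card_congr φ.toEquiv]
    congr 1
    refine Fintype.sum_equiv φ.toEquiv _ _ fun x => ?_
    simp [pullM, θ]
  let t : Multiplicative Vec →* M := SemidirectProduct.inl
  obtain ⟨m, hm⟩ := classInner_generalized_int (G := Multiplicative Vec)
    (isGeneralizedCharacter_comp hθ t)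
    (isGeneralizedCharacter_of_isCharacter (isCharacter_of_isIrr isIrrCharacter_one))
  refine ⟨m, ?_⟩
  have hm' : ∑ v : Multiplicative Vec, θ (t v) = 9 * (m : ℂ) := by
    rw [← hm]
    simp only [classInner, map_one, mul_one]
    rw [show Nat.card (Multiplicative Vec) = 9 by simp [Vec]]
    push_cast
    ring
  have hcomb : (2 * (iq (Fv φ 0) X : ℂ) + 2 * iq (Fv φ 1) X - iq (Fv φ 2) X - iq (Fv φ 3) X) =
      (4 : ℂ)⁻¹ * ∑ x : M, (if InV x then conj (θ x) else 0) := by
    simp only [hiq, Nat.card_eq_fintype_card, card_M, Finset.mul_sum, ← Finset.sum_add_distrib,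
      ← Finset.sum_sub_distrib]
    refine Finset.sum_congr rfl fun x _ => ?_
    have h := translations (clsOf x)
    rw [cls_rep, show (if clsOf x = 5 ∨ clsOf x = 8 then (1 : ℤ) else 0) =
      if InV x then 1 else 0 from if_congr (InV_cls x).symm rfl rfl] at h
    have h' := congrArg (fun z : ℤ => (z : ℂ)) h
    split_ifs with hv
    · simp only [hv, if_true] at h'
      push_cast at h'
      simp only [clFun]
      push_cast
      linear_combination (-conj (θ x) / 72) * h'
    · simp only [hv, if_false] at h'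
      push_cast at h'
      simp only [clFun]
      push_cast
      linear_combination (-conj (θ x) / 72) * h'
  have hsplit : ∑ x : M, (if InV x then θ x else 0) + θ 1 = ∑ v : Multiplicative Vec, θ (t v) := by
    have e1 : ∑ x : M, (if InV x then θ x else 0) + θ 1 =
        ∑ x : M, (if x.right = 1 then θ x else 0) := by
      rw [show θ 1 = ∑ x : M, (if x = 1 then θ x else 0) by simp, ← Finset.sum_add_distrib]
      refine Finset.sum_congr rfl fun x _ => ?_
      by_cases h1 : x = 1
      · subst h1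
        simp [InV]
      · simp [InV, h1]
    rw [e1, ← Finset.sum_filter]
    refine Finset.sum_bij (fun x _ => x.left) (fun x _ => Finset.mem_univ _) (fun a ha b hb e => ?_)
      (fun v _ => ⟨t v, by simp [t], rfl⟩) fun x hx => ?_
    · simp only [Finset.mem_filter, Finset.mem_univ, true_and] at ha hb
      exact SemidirectProduct.ext e (ha.trans hb.symm)
    · simp only [Finset.mem_filter, Finset.mem_univ, true_and] at hx
      congr 1
      exact SemidirectProduct.ext rfl hx
  have hsum : conj (∑ x : M, (if InV x then θ x else 0)) = ∑ x : M, (if InV x then conj (θ x) else 0) := by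
    rw [map_sum]
    exact Finset.sum_congr rfl fun x _ => by split_ifs <;> simp
  have hX1 : θ 1 = X 1 := by simp [θ]
  obtain ⟨k, hk⟩ : ∃ k : ℤ, X 1 = k := by
    obtain ⟨a, b, ha, hb, rfl⟩ := hX
    obtain ⟨p, hp⟩ := isCharacter_degree ha
    obtain ⟨q, hq⟩ := isCharacter_degree hb
    exact ⟨(p : ℤ) - q, by simp [hp, hq]⟩
  have hreal : conj (∑ x : M, (if InV x then θ x else 0)) = 9 * (m : ℂ) - X 1 := by
    have : ∑ x : M, (if InV x then θ x else 0) = 9 * (m : ℂ) - X 1 := by
      rw [← hm', ← hsplit, hX1]; ring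
    rw [this, hk]
    simp [map_ofNat]
  rw [hsum] at hreal
  rw [hreal] at hcomb
  push_cast
  linear_combination 4 * hcomb

end CfsgLib.Char.NineDihedral
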