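import Cfsg.Agent.Lib.Char.NineDihedral.Constituents
import Cfsg.Agent.Lib.Char.TransLinear.AutCard
import Mathlib.FieldTheory.IsAlgClosed.Basic
import Mathlib.GroupTheory.Sylow

/-!
# A self-centralizing Sylow `3²` with normalizer `3²:D₈` in a simple group: non-existence
-/

set_option autoImplicit false
set_option linter.unusedSectionVars false

namespace CfsgLib.Char.NineDihedral

open scoped ComplexConjugate
open Cfsg CfsgLib.Char CfsgLib.Char.Signed

universe u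

/-- The union of some of the classes of involutions. -/
def InS (S : Finset (Fin 3)) (a : M) : Prop := ∃ j ∈ S, clsOf a = clC j

instance instDecInS (S : Finset (Fin 3)) : DecidablePred (InS S) := fun a =>
  inferInstanceAs (Decidable (∃ j ∈ S, clsOf a = clC j))

theorem clC_inj : ∀ i j, clC i = clC j → i = j := by decide

theorem sum_InS {R : Type*} [AddCommMonoid R] (S : Finset (Fin 3)) (f : M → R) :
    ∑ a ∈ Finset.univ.filter (InS S), f a =
      ∑ j ∈ S, ∑ a ∈ Finset.univ.filter (fun x : M => clsOf x = clC j), f a := by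
  rw [← Finset.sum_biUnion]
  · refine Finset.sum_congr ?_ fun _ _ => rfl
    ext a
    simp [InS]
  · intro i _ j _ hij
    simp only [Function.onFun, Finset.disjoint_left, Finset.mem_filter, Finset.mem_univ, true_and]
    exact fun a ha hb => hij (clC_inj _ _ (ha.symm.trans hb))

theorem pair_sum_set (S T : Finset (Fin 3)) (k : Fin 4) :
    ∑ a ∈ Finset.univ.filter (InS S), ∑ b ∈ Finset.univ.filter (InS T), vval k (clsOf (a * b)) =
      36 * ∑ i ∈ S, ∑ j ∈ T, pairRhs i j k := by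
  rw [sum_InS, Finset.mul_sum]
  refine Finset.sum_congr rfl fun i _ => ?_
  rw [Finset.sum_congr rfl fun a _ => sum_InS T fun b => vval k (clsOf (a * b)), Finset.sum_comm,
    Finset.mul_sum]
  exact Finset.sum_congr rfl fun j _ => pair_sum i j k

theorem fused_sums : ∀ k : Fin 4,
    (∑ i ∈ ({0, 1} : Finset (Fin 3)), ∑ j ∈ ({0, 1} : Finset (Fin 3)), pairRhs i j k,
     ∑ i ∈ ({0, 1} : Finset (Fin 3)), ∑ j ∈ ({2} : Finset (Fin 3)), pairRhs i j k,
     pairRhs 2 2 k) = ![((16 : ℤ), (0 : ℤ), (2 : ℤ)), (11, 3, 1), (5, 3, 1), (7, 3, -1)] k := by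
  decide +kernel

theorem swap_InV : ∀ x : M, InV (swapFn x) ↔ InV x := by decide +kernel

theorem gram_two : gram 0 1 = 2 ∧ gram 0 2 = 2 ∧ gram 1 3 = 2 ∧ gram 2 3 = 2 := by decide

variable {G : Type u} [Group G] [Fintype G] {H : Subgroup G} {φ : H ≃* M}

theorem Emb.el_one (h : Emb H φ) : h.el 1 = 1 := by simp [Emb.el]

theorem Emb.el_sq (h : Emb H φ) (i : Fin 3) : h.el (invC i) * h.el (invC i) = 1 := by
  rw [← h.el_mul, (invC_spec i).1, h.el_one]

theorem Emb.el_ne (h : Emb H φ) (i : Fin 3) : h.el (invC i) ≠ 1 := fun e =>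
  (invC_spec i).2.2 (h.el_inj (e.trans h.el_one.symm))

theorem Emb.el_isConj (h : Emb H φ) {a b : M} (hab : clsOf a = clsOf b) :
    IsConj (h.el a) (h.el b) := by
  obtain ⟨w, hw⟩ := clsOf_eq_imp hab
  exact isConj_iff.2 ⟨h.el w, by rw [← hw]; simp [Emb.el]⟩

theorem Emb.conj_iff (h : Emb H φ) {i : Fin 3} {S : Finset (Fin 3)}
    (hS : ∀ j, IsConj (h.el (invC i)) (h.el (invC j)) ↔ j ∈ S) (y : H) :
    IsConj (h.el (invC i)) (y : G) ↔ InS S (φ y) := by
  have hy : h.el (φ y) = (y : G) := by simp [Emb.el]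
  constructor
  · intro hc
    obtain ⟨c, hc'⟩ := isConj_iff.1 hc
    have hsq : φ y * φ y = 1 := h.el_inj (by
      rw [h.el_mul, hy, h.el_one, ← hc', show c * h.el (invC i) * c⁻¹ * (c * h.el (invC i) * c⁻¹) =
        c * (h.el (invC i) * h.el (invC i)) * c⁻¹ by group, h.el_sq]
      group)
    have hne : φ y ≠ 1 := fun e => h.el_ne i ((conj_eq_one_iff (a := c)).1 (by
      rw [hc', ← hy, e, h.el_one]))
    obtain ⟨j, hj⟩ : ∃ j, clsOf (φ y) = clC j := by
      rcases invol_cls _ hsq with e | e | e | e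
      · exact absurd e hne
      · exact ⟨0, e⟩
      · exact ⟨1, e⟩
      · exact ⟨2, e⟩
    exact ⟨j, (hS j).1 (hc.trans (hy ▸ h.el_isConj (hj.trans (invC_spec j).2.1.symm))), hj⟩
  · rintro ⟨j, hj, e⟩
    exact ((hS j).2 hj).trans (hy ▸ h.el_isConj ((invC_spec j).2.1.trans e.symm))

/-- The class-algebra functional on the induced lattice. -/
theorem Emb.qfun2_el (h : Emb H φ) {i j : Fin 3} {S T : Finset (Fin 3)}
    (hS : ∀ l, IsConj (h.el (invC i)) (h.el (invC l)) ↔ l ∈ S)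
    (hT : ∀ l, IsConj (h.el (invC j)) (h.el (invC l)) ↔ l ∈ T) (k : Fin 4) :
    ThreeSFour.qfun2 (h.el (invC i)) (h.el (invC j)) (Fv φ k) =
      (Nat.card G : ℂ) / ((Nat.card H : ℂ) * ((Nat.card {x : G // IsConj (h.el (invC i)) x} : ℂ) *
        (Nat.card {x : G // IsConj (h.el (invC j)) x} : ℂ))) *
      (36 * ((∑ a ∈ S, ∑ b ∈ T, pairRhs a b k : ℤ) : ℂ)) := by
  classical
  have := Fintype.ofFinite H
  rw [Fv, ThreeSFour.qfun2_indFun]
  · congr 1
    rw [finsum_eq_sum_of_fintype, Fintype.sum_equiv ((φ.toEquiv.subtypeEquiv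
        (q := InS S) (h.conj_iff hS)).prodCongr (φ.toEquiv.subtypeEquiv (q := InS T) (h.conj_iff hT)))
      _ (fun p => ((vval k (clsOf (p.1.1 * p.2.1)) : ℤ) : ℂ)) fun p => by simp [pullM, clFun],
      Fintype.sum_prod_type]
    have h36 := pair_sum_set S T k
    rw [Finset.sum_subtype (p := InS S) (Finset.univ.filter (InS S)) (by simp)] at h36
    simp only [Finset.sum_subtype (p := InS T) (Finset.univ.filter (InS T)) (h := by simp)] at h36
    exact_mod_cast h36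
  · intro x hx y z hy hz hyz
    refine h.mem_of_inverted (x := x) (Nat.lt_of_not_le fun hle => hx ?_) ?_
    · simp [pullM, clFun, vval_supp k _ hle]
    · obtain ⟨c, rfl⟩ := isConj_iff.1 hy
      obtain ⟨d, rfl⟩ := isConj_iff.1 hz
      have h1 : c * h.el (invC i) * c⁻¹ * (c * h.el (invC i) * c⁻¹) = 1 := by
        rw [show c * h.el (invC i) * c⁻¹ * (c * h.el (invC i) * c⁻¹) =
          c * (h.el (invC i) * h.el (invC i)) * c⁻¹ by group, h.el_sq]
        group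
      have h2 : d * h.el (invC j) * d⁻¹ * (d * h.el (invC j) * d⁻¹) = 1 := by
        rw [show d * h.el (invC j) * d⁻¹ * (d * h.el (invC j) * d⁻¹) =
          d * (h.el (invC j) * h.el (invC j)) * d⁻¹ by group, h.el_sq]
        group
      generalize c * h.el (invC i) * c⁻¹ = y at h1 hyz ⊢
      generalize d * h.el (invC j) * d⁻¹ = z at h2 hyz
      rw [← hyz, mul_inv_rev, inv_eq_of_mul_eq_one_right h1, inv_eq_of_mul_eq_one_right h2,
        ← mul_assoc, h1, one_mul]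

/-- The functional with a scaling. -/
theorem Emb.exists_scale (h : Emb H φ) : ∃ κ : Fin 3 → ℂ, (∀ i, κ i ≠ 0) ∧
    ∀ i j S T, (∀ l, IsConj (h.el (invC i)) (h.el (invC l)) ↔ l ∈ S) →
      (∀ l, IsConj (h.el (invC j)) (h.el (invC l)) ↔ l ∈ T) → ∀ k,
      ThreeSFour.qfun2 (h.el (invC i)) (h.el (invC j)) (Fv φ k) =
        κ i * κ j * ((∑ a ∈ S, ∑ b ∈ T, pairRhs a b k : ℤ) : ℂ) := by
  obtain ⟨ρ, hρ⟩ := IsAlgClosed.exists_pow_nat_eq (36 * (Nat.card G : ℂ) / (Nat.card H : ℂ)) two_pos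
  have hcl : ∀ i, (Nat.card {x : G // IsConj (h.el (invC i)) x} : ℂ) ≠ 0 := fun i => by
    have : Nonempty {x : G // IsConj (h.el (invC i)) x} := ⟨⟨_, IsConj.refl _⟩⟩
    exact_mod_cast Nat.card_pos.ne'
  have hG : (Nat.card G : ℂ) ≠ 0 := by exact_mod_cast Nat.card_pos.ne'
  have hH : (Nat.card H : ℂ) ≠ 0 := by exact_mod_cast Nat.card_pos.ne'
  refine ⟨fun i => ρ / (Nat.card {x : G // IsConj (h.el (invC i)) x} : ℂ),
    fun i => div_ne_zero ?_ (hcl i), fun i j S T hS hT k => ?_⟩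
  · rintro rfl
    exact div_ne_zero (mul_ne_zero (show (36 : ℂ) ≠ 0 by norm_num) hG) hH (by rw [← hρ]; ring)
  · rw [h.qfun2_el hS hT]
    have := hcl i
    have := hcl j
    field_simp at hρ ⊢
    linear_combination (-((∑ a ∈ S, ∑ b ∈ T, pairRhs a b k : ℤ) : ℂ)) * hρ

theorem form_scale (dA dB dC uA uB uC vA vB vC κ κ' : ℂ) :
    form dA dB dC (uA / κ) (uB / κ) (uC / κ) (vA / κ') (vB / κ') (vC / κ') =
      form dA dB dC uA uB uC vA vB vC / (κ * κ') := by
  simp only [form]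
  ring

/-- The normalized values of two constituents satisfy the dual form. -/
theorem dual_cross (φ : H ≃* M) {k : Fin 4} {y z c : G → ℂ} (hy : Sg y) (hz : Sg z) (hc : Sg c)
    (he : Rv φ k = y + z + c) {g g' : G} (hg : g * g = 1) (hg' : g' * g' = 1) {κ κ' p q r : ℂ}
    (hκ : κ ≠ 0) (hκ' : κ' ≠ 0) (hp : ThreeSFour.qfun2 g g (Fv φ k) = κ * κ * p)
    (hq : ThreeSFour.qfun2 g g' (Fv φ k) = κ * κ' * q)
    (hr : ThreeSFour.qfun2 g' g' (Fv φ k) = κ' * κ' * r) :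
    r * (shift y g / κ) ^ 2 - 2 * q * ((shift y g / κ) * (shift y g' / κ')) +
        p * (shift y g' / κ') ^ 2 = (p * r - q ^ 2) * (y 1 ^ 2 + y 1) ∧
      r * ((shift y g / κ) * (shift z g / κ)) - q * ((shift y g / κ) * (shift z g' / κ') +
        (shift z g / κ) * (shift y g' / κ')) + p * ((shift y g' / κ') * (shift z g' / κ')) =
        (p * r - q ^ 2) * (y 1 * z 1) := by
  obtain ⟨e1, eg, egg⟩ := form_eq φ hy hz hc he hg hg
  obtain ⟨-, -, egg'⟩ := form_eq φ hy hz hc he hg hg'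
  obtain ⟨-, eg', eg'g'⟩ := form_eq φ hy hz hc he hg' hg'
  refine dual (uC := shift c g / κ) (vC := shift c g' / κ') hy.apply_one_ne hz.apply_one_ne
    hc.apply_one_ne e1 ?_ ?_ ?_ ?_ ?_
  · rw [← add_div, ← add_div, eg, zero_div]
  · rw [← add_div, ← add_div, eg', zero_div]
  · rw [form_scale, egg, hp]; field_simp
  · rw [form_scale, egg', hq]; field_simp
  · rw [form_scale, eg'g', hr]; field_simp

/-- No fusion: a constituent of degree `-1`. -/
theorem Emb.unfused_case (h : Emb H φ) (n01 : ¬ IsConj (h.el (invC 0)) (h.el (invC 1)))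
    (n02 : ¬ IsConj (h.el (invC 0)) (h.el (invC 2))) :
    ∃ y : G → ℂ, Sg y ∧ y 1 = -1 ∧ y ≠ -(fun _ => 1) := by
  obtain ⟨κ, hκ, hq⟩ := h.exists_scale
  have n12 := h.not_conj
  have hS : ∀ i l : Fin 3, IsConj (h.el (invC i)) (h.el (invC l)) ↔ l ∈ ({i} : Finset (Fin 3)) := by
    intro i l
    rw [Finset.mem_singleton]
    refine ⟨fun hc => ?_, fun e => e ▸ IsConj.refl _⟩
    fin_cases i <;> fin_cases l <;>
      first
        | rfl
        | exact absurd hc n01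
        | exact absurd hc.symm n01
        | exact absurd hc n02
        | exact absurd hc.symm n02
        | exact absurd hc n12
        | exact absurd hc.symm n12
  have hp : ∀ i j k, ThreeSFour.qfun2 (h.el (invC i)) (h.el (invC j)) (Fv φ k) =
      κ i * κ j * (pairRhs i j k : ℂ) := by
    intro i j k
    rw [hq i j {i} {j} (hS i) (hS j)]
    simp
  obtain ⟨y, hy, h2, h3, -⟩ := h.share_Rv gram_two.2.2.2
  have h4 : ∀ k, gram k k = 4 := by decide
  obtain ⟨a, b, ha, hb, he⟩ := split_three (Rv_gen φ 2) (by rw [h.iq_Rv, h4]; norm_num) hy h2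
  obtain ⟨c, d, hc, hd, he'⟩ := split_three (Rv_gen φ 3) (by rw [h.iq_Rv, h4]; norm_num) hy h3
  obtain ⟨s1, -, -⟩ := form_eq φ hy ha hb he (h.el_sq 0) (h.el_sq 0)
  obtain ⟨s1', -, -⟩ := form_eq φ hy hc hd he' (h.el_sq 0) (h.el_sq 0)
  refine ⟨y, hy, ?_, (ne_principal φ hy (by rw [h2]; norm_num : iq (Rv φ 2) y ≠ 0)).2⟩
  exact unfused (W := fun i => shift y (h.el (invC i))) (A := fun i => shift a (h.el (invC i)))
    (B := fun i => shift b (h.el (invC i))) (C := fun i => shift c (h.el (invC i)))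
    (D := fun i => shift d (h.el (invC i))) hy.apply_one_ne ha.apply_one_ne hb.apply_one_ne
    hc.apply_one_ne hd.apply_one_ne s1 s1'
    (fun i => (form_eq φ hy ha hb he (h.el_sq i) (h.el_sq i)).2.1)
    (fun i => (form_eq φ hy hc hd he' (h.el_sq i) (h.el_sq i)).2.1)
    (g := fun i j => κ i * κ j * (pairRhs i j 2 : ℂ)) (g' := fun i j => κ i * κ j * (pairRhs i j 3 : ℂ))
    (fun i j => (form_eq φ hy ha hb he (h.el_sq i) (h.el_sq j)).2.2.trans (hp i j 2))
    (fun i j => (form_eq φ hy hc hd he' (h.el_sq i) (h.el_sq j)).2.2.trans (hp i j 3)) hκ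
    (by simp [pairRhs]) (by simp [pairRhs]) (by simp [pairRhs]) (by simp [pairRhs])
    (by simp [pairRhs]) (by simp [pairRhs]) (by simp [pairRhs]) (by simp [pairRhs])
    (by simp [pairRhs]) (by simp [pairRhs]) (by simp [pairRhs])

/-- The central involution fused with the axial reflection. -/
theorem Emb.fused_case (h : Emb H φ) (h01 : IsConj (h.el (invC 0)) (h.el (invC 1))) :
    ∃ y : G → ℂ, Sg y ∧ y 1 = -1 ∧ y ≠ -(fun _ => 1) := by
  obtain ⟨κ, hκ, hq⟩ := h.exists_scale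
  have n12 := h.not_conj
  have n02 : ¬ IsConj (h.el (invC 0)) (h.el (invC 2)) := fun hc => n12 (h01.symm.trans hc)
  have hS0 : ∀ l : Fin 3, IsConj (h.el (invC 0)) (h.el (invC l)) ↔ l ∈ ({0, 1} : Finset (Fin 3)) := by
    intro l
    fin_cases l
    · exact iff_of_true (IsConj.refl _) (by decide)
    · exact iff_of_true h01 (by decide)
    · exact iff_of_false n02 (by decide)
  have hS2 : ∀ l : Fin 3, IsConj (h.el (invC 2)) (h.el (invC l)) ↔ l ∈ ({2} : Finset (Fin 3)) := by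
    intro l
    fin_cases l
    · exact iff_of_false (fun hc => n02 hc.symm) (by decide)
    · exact iff_of_false (fun hc => n12 hc.symm) (by decide)
    · exact iff_of_true (IsConj.refl _) (by decide)
  let u : (G → ℂ) → ℂ := fun y => shift y (h.el (invC 0)) / κ 0
  let v : (G → ℂ) → ℂ := fun y => shift y (h.el (invC 2)) / κ 2
  have hR3 : ∀ k, iq (Rv φ k) (Rv φ k) = 3 := fun k => by
    rw [h.iq_Rv, (by decide : ∀ k, gram k k = 4) k]; norm_num
  have hdual : ∀ (k : Fin 4) (p q r : ℤ), (p, q, r) = ![((16 : ℤ), (0 : ℤ), (2 : ℤ)), (11, 3, 1),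
      (5, 3, 1), (7, 3, -1)] k → ∀ y z c : G → ℂ, Sg y → Sg z → Sg c → Rv φ k = y + z + c →
      (r : ℂ) * u y ^ 2 - 2 * (q : ℂ) * (u y * v y) + (p : ℂ) * v y ^ 2 =
          ((p : ℂ) * r - (q : ℂ) ^ 2) * (y 1 ^ 2 + y 1) ∧
        (r : ℂ) * (u y * u z) - (q : ℂ) * (u y * v z + u z * v y) + (p : ℂ) * (v y * v z) =
          ((p : ℂ) * r - (q : ℂ) ^ 2) * (y 1 * z 1) := by
    intro k p q r e y z c hy hz hc he
    rw [← fused_sums k, Prod.mk.injEq, Prod.mk.injEq] at e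
    obtain ⟨rfl, rfl, rfl⟩ := e
    exact dual_cross φ hy hz hc he (h.el_sq 0) (h.el_sq 2) (hκ 0) (hκ 2) (hq 0 0 _ _ hS0 hS0 k)
      (hq 0 2 _ _ hS0 hS2 k) (by rw [hq 2 2 _ _ hS2 hS2 k]; simp)
  have hQ : ∀ k y, Sg y → iq (Rv φ k) y = 1 → ![Q1, Q2, Q3, Q4] k (u y) (v y) (y 1 ^ 2 + y 1) := by
    intro k y hy h1
    obtain ⟨a, b, ha, hb, he⟩ := split_three (Rv_gen φ k) (hR3 k) hy h1
    fin_cases k
    · have := (hdual 0 16 0 2 rfl y a b hy ha hb he).1
      simp only [Q1, Fin.zero_eta, Matrix.cons_val_zero]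
      push_cast at this
      linear_combination this / 2
    · have := (hdual 1 11 3 1 rfl y a b hy ha hb he).1
      simp only [Q2, Fin.mk_one, Matrix.cons_val_one, Matrix.cons_val_zero]
      push_cast at this
      linear_combination this
    · have := (hdual 2 5 3 1 rfl y a b hy ha hb he).1
      simp only [Q3, Fin.reduceFinMk, Matrix.cons_val]
      push_cast at this
      linear_combination this
    · have := (hdual 3 7 3 (-1) rfl y a b hy ha hb he).1
      simp only [Q4, Fin.reduceFinMk, Matrix.cons_val]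
      push_cast at this
      linear_combination this
  obtain ⟨ge, hge, e0, e1, ue⟩ := h.share_Rv gram_two.1
  obtain ⟨gS, hgS, S0, S2, uS⟩ := h.share_Rv gram_two.2.1
  obtain ⟨gT, hgT, T1, T3, uT⟩ := h.share_Rv gram_two.2.2.1
  obtain ⟨gw, hgw, w2, w3, uw⟩ := h.share_Rv gram_two.2.2.2
  -- equality of two shared constituents
  have meet : ∀ {k : Fin 4} {x y : G → ℂ}, Sg y → iq (Rv φ k) x = 1 → iq (Rv φ k) y = 1 →
      (x = y ∨ x = -y) → x = y := by
    intro k x y hy hx hy' e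
    rcases e with e | e
    · exact e
    · rw [e, iq_neg_right (Rv_gen φ k) hy.gen, hy'] at hx
      norm_num at hx
  have fin : ∀ y : G → ℂ, Sg y →
      ((iq (Rv φ 0) y = 1 ∧ iq (Rv φ 1) y = 1 ∧ iq (Rv φ 2) y = 1) ∨
        (iq (Rv φ 0) y = 1 ∧ iq (Rv φ 1) y = 1 ∧ iq (Rv φ 3) y = 1) ∨
        (iq (Rv φ 0) y = 1 ∧ iq (Rv φ 2) y = 1 ∧ iq (Rv φ 3) y = 1) ∨
        (iq (Rv φ 1) y = 1 ∧ iq (Rv φ 2) y = 1 ∧ iq (Rv φ 3) y = 1)) →
      ∃ y : G → ℂ, Sg y ∧ y 1 = -1 ∧ y ≠ -(fun _ => 1) := by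
    intro y hy hc
    have hD : y 1 ^ 2 + y 1 = 0 := triple (x := u y) (y := v y) (by
      rcases hc with ⟨a, b, c⟩ | ⟨a, b, c⟩ | ⟨a, b, c⟩ | ⟨a, b, c⟩
      · exact Or.inl ⟨hQ 0 y hy a, hQ 1 y hy b, hQ 2 y hy c⟩
      · exact Or.inr (Or.inl ⟨hQ 0 y hy a, hQ 1 y hy b, hQ 3 y hy c⟩)
      · exact Or.inr (Or.inr (Or.inl ⟨hQ 0 y hy a, hQ 2 y hy b, hQ 3 y hy c⟩))
      · exact Or.inr (Or.inr (Or.inr ⟨hQ 1 y hy a, hQ 2 y hy b, hQ 3 y hy c⟩)))
    obtain ⟨k, hk⟩ : ∃ k, iq (Rv φ k) y ≠ 0 := by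
      rcases hc with ⟨a, -⟩ | ⟨a, -⟩ | ⟨a, -⟩ | ⟨a, -⟩ <;> exact ⟨_, by rw [a]; norm_num⟩
    refine ⟨y, hy, ?_, (ne_principal φ hy hk).2⟩
    have : y 1 * (y 1 + 1) = 0 := by linear_combination hD
    linear_combination (mul_eq_zero.1 this).resolve_left hy.apply_one_ne
  by_cases he2 : iq (Rv φ 2) ge = 0
  swap
  · obtain rfl := meet hgS e0 S0 (uS ge hge (by rw [e0]; norm_num) he2)
    exact fin ge hge (Or.inl ⟨e0, e1, S2⟩)
  by_cases he3 : iq (Rv φ 3) ge = 0
  swap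
  · obtain rfl := meet hgT e1 T1 (uT ge hge (by rw [e1]; norm_num) he3)
    exact fin ge hge (Or.inr (Or.inl ⟨e0, e1, T3⟩))
  by_cases hS1 : iq (Rv φ 1) gS = 0
  swap
  · obtain rfl := meet hge S0 e0 (ue gS hgS (by rw [S0]; norm_num) hS1)
    exact fin gS hgS (Or.inl ⟨S0, e1, S2⟩)
  by_cases hS3 : iq (Rv φ 3) gS = 0
  swap
  · obtain rfl := meet hgw S2 w2 (uw gS hgS (by rw [S2]; norm_num) hS3)
    exact fin gS hgS (Or.inr (Or.inr (Or.inl ⟨S0, S2, w3⟩)))
  by_cases hw0 : iq (Rv φ 0) gw = 0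
  swap
  · obtain rfl := meet hgS w2 S2 (uS gw hgw hw0 (by rw [w2]; norm_num))
    exact fin gw hgw (Or.inr (Or.inr (Or.inl ⟨S0, w2, w3⟩)))
  by_cases hw1 : iq (Rv φ 1) gw = 0
  swap
  · obtain rfl := meet hgT w3 T3 (uT gw hgw hw1 (by rw [w3]; norm_num))
    exact fin gw hgw (Or.inr (Or.inr (Or.inr ⟨T1, w2, w3⟩)))
  -- three different shared constituents
  obtain ⟨de, de0, hde⟩ := hge.apply_one_int
  obtain ⟨dS, dS0, hdS⟩ := hgS.apply_one_int
  obtain ⟨dw, dw0, hdw⟩ := hgw.apply_one_int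
  have res : ∀ {y : G → ℂ} {d c0 c1 c2 c3 : ℤ}, Sg y → y 1 = d → (∃ k, iq (Rv φ k) y ≠ 0) →
      iq (Rv φ 0) y = c0 → iq (Rv φ 1) y = c1 → iq (Rv φ 2) y = c2 → iq (Rv φ 3) y = c3 →
      (d : ZMod 9) = -((4 * (2 * c0 + 2 * c1 - c2 - c3) : ℤ) : ZMod 9) := by
    intro y d c0 c1 c2 c3 hy hd ⟨k, hk⟩ r0 r1 r2 r3
    obtain ⟨m, hm⟩ := degree_congr φ hy.gen
    simp only [iq_Fv_of_ne φ _ hy hk, r0, r1, r2, r3, hd] at hm
    have hm' : d + 4 * (2 * c0 + 2 * c1 - c2 - c3) = 9 * m := by exact_mod_cast hm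
    rw [eq_neg_iff_add_eq_zero, ← Int.cast_add, hm', Int.cast_mul]
    exact mul_eq_zero_of_left (by decide) _
  have horth : ∀ {k l : Fin 4} {x y : G → ℂ}, Sg x → Sg y → iq (Rv φ k) x = 1 → iq (Rv φ k) y = 1 →
      iq (Rv φ l) x = 1 → iq (Rv φ l) y = 0 → iq x y = 0 := by
    intro k l x y hx hy a b c d
    rcases hx.iq_cases hy with e | ⟨-, e⟩ | ⟨-, e⟩
    · exact e
    · rw [e, d] at c
      norm_num at c
    · rw [e, iq_neg_right (Rv_gen φ k) hy.gen, b] at a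
      norm_num at a
  obtain ⟨c, hc, hce⟩ := split_two (Rv_gen φ 0) (hR3 0) hge hgS (horth hge hgS e0 S0 e1 hS1) e0 S0
  obtain ⟨d, hd, hde'⟩ := split_two (Rv_gen φ 2) (hR3 2) hgw hgS (horth hgw hgS w2 S2 w3 hS3) w2 S2
  have x1 := (hdual 0 16 0 2 rfl ge gS c hge hgS hc hce).2
  have x3 := (hdual 2 5 3 1 rfl gw gS d hgw hgS hd hde').2
  push_cast at x1 x3
  have hd' := fused de0 dS0 dw0
    (by rw [res hge hde ⟨0, by rw [e0]; norm_num⟩ e0 e1 he2 he3]; decide)
    (by rw [res hgS hdS ⟨0, by rw [S0]; norm_num⟩ S0 hS1 S2 hS3]; decide)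
    (by rw [res hgw hdw ⟨2, by rw [w2]; norm_num⟩ hw0 hw1 w2 w3]; decide)
    (e1 := u ge) (e2 := v ge) (S1 := u gS) (S2 := v gS) (w1 := u gw) (w2 := v gw)
    (by rw [← hde]; exact hQ 0 ge hge e0) (by rw [← hde]; exact hQ 1 ge hge e1)
    (by rw [← hdS]; exact hQ 0 gS hgS S0) (by rw [← hdS]; exact hQ 2 gS hgS S2)
    (by rw [← hdw]; exact hQ 2 gw hgw w2) (by rw [← hdw]; exact hQ 3 gw hgw w3)
    (by rw [hde, hdS] at x1; linear_combination x1 / 2)
    (by rw [hdw, hdS] at x3; linear_combination x3)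
  exact ⟨gw, hgw, by rw [hdw, hd']; norm_num,
    (ne_principal φ hgw (by rw [w2]; norm_num : iq (Rv φ 2) gw ≠ 0)).2⟩

/-- The outer automorphism. -/
noncomputable def swapEquiv : M ≃* M :=
  MulEquiv.ofBijective (MonoidHom.mk' swapFn swap_mul)
    (Finite.injective_iff_bijective.1 ((injective_iff_map_eq_one _).2 swap_bij))

/-- A constituent of degree `-1`. -/
theorem Emb.exists_degree_neg_one (h : Emb H φ) :
    ∃ y : G → ℂ, Sg y ∧ y 1 = -1 ∧ y ≠ -(fun _ => 1) := by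
  by_cases h01 : IsConj (h.el (invC 0)) (h.el (invC 1))
  · exact h.fused_case h01
  by_cases h02 : IsConj (h.el (invC 0)) (h.el (invC 2))
  · have h' := h.comp_swap swapEquiv swap_InV
    have key : ∀ (a b : M), clsOf (swapFn b) = clsOf a → IsConj (h'.el a) (h.el b) := by
      intro a b hab
      obtain ⟨w, hw⟩ := clsOf_eq_imp hab
      refine (isConj_iff.2 ⟨h'.el w, ?_⟩ : IsConj (h.el b) (h'.el a)).symm
      have hb : h'.el (swapFn b) = h.el b := by
        show (((φ.trans swapEquiv).symm (swapEquiv b) : H) : G) = _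
        simp [Emb.el]
      rw [← hw, ← hb]
      simp [Emb.el]
    refine h'.fused_case ?_
    refine ((key _ _ ?_).trans h02).trans (key _ _ ?_).symm
    · rw [swap_invC.1, (invC_spec 0).2.1]; rfl
    · rw [swap_invC.2.2, (invC_spec 1).2.1]; rfl
  · exact h.unfused_case h01 h02

/-- A non-trivial homomorphism to the multiplicative group. -/
theorem Emb.exists_hom_ne_one (h : Emb H φ) : ∃ f : G →* ℂˣ, f ≠ 1 := by
  obtain ⟨y, hy, h1, hne⟩ := h.exists_degree_neg_one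
  obtain ⟨f, hf⟩ := hy.neg.exists_hom (by rw [Pi.neg_apply, h1, neg_neg])
  refine ⟨f, fun e => hne ?_⟩
  funext g
  have := hf g
  rw [e] at this
  simp only [MonoidHom.one_apply, Units.val_one, Pi.neg_apply] at this
  rw [Pi.neg_apply]
  linear_combination this

end CfsgLib.Char.NineDihedral
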