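import Mathlib.GroupTheory.SemidirectProduct
import Mathlib.GroupTheory.SpecificGroups.Dihedral
import Mathlib.Algebra.Field.ZMod
import Mathlib.Algebra.BigOperators.Group.Finset.Basic
import Mathlib.Data.Fintype.Prod
import Mathlib.Data.Fin.VecNotation
import Mathlib.Algebra.BigOperators.Fin
import Mathlib.Tactic.DeriveFintype
import Mathlib.Tactic.FinCases

/-!
# The group `3²:D₈` of order 72: model and tables
-/

set_option autoImplicit false
set_option maxRecDepth 100000

namespace CfsgLib.Char.NineDihedral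

/-- The translations. -/
abbrev Vec := ZMod 3 × ZMod 3

/-- A quarter turn. -/
def rot (w : Vec) : Vec := (-w.2, w.1)

/-- The action of the dihedral group on translations. -/
def actFn : DihedralGroup 4 → Vec → Vec
  | .r i, w => rot^[i.val] w
  | .sr i, w => ((rot^[i.val] w).1, -(rot^[i.val] w).2)

theorem actFn_mul : ∀ (g h : DihedralGroup 4) (w : Vec), actFn (g * h) w = actFn g (actFn h w) := by
  decide +kernel

theorem actFn_one : ∀ w : Vec, actFn 1 w = w := by decide +kernel

theorem actFn_add : ∀ (g : DihedralGroup 4) (a b : Vec), actFn g (a + b) = actFn g a + actFn g b := by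
  decide +kernel

/-- The action as automorphisms. -/
def act : DihedralGroup 4 →* MulAut (Multiplicative Vec) where
  toFun g :=
    { toFun := fun w => Multiplicative.ofAdd (actFn g w.toAdd)
      invFun := fun w => Multiplicative.ofAdd (actFn g⁻¹ w.toAdd)
      left_inv := fun w => by simp [← actFn_mul, actFn_one]
      right_inv := fun w => by simp [← actFn_mul, actFn_one]
      map_mul' := fun a b => by simp [actFn_add] }
  map_one' := MulEquiv.ext fun w => by simp [actFn_one]
  map_mul' g h := MulEquiv.ext fun w => by simp [actFn_mul]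

/-- The group. -/
abbrev M := SemidirectProduct (Multiplicative Vec) (DihedralGroup 4) act

/-- An element. -/
def mk (w : Vec) (g : DihedralGroup 4) : M := ⟨Multiplicative.ofAdd w, g⟩

/-- The pairs. -/
def mEquiv : Vec × DihedralGroup 4 ≃ M where
  toFun p := mk p.1 p.2
  invFun x := (x.left.toAdd, x.right)
  left_inv _ := rfl
  right_inv _ := rfl

instance instFintypeM : Fintype M := Fintype.ofEquiv _ mEquiv

theorem card_M : Fintype.card M = 72 := by decide +kernel

/-- The index of an element of the dihedral group. -/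
def dIdx : DihedralGroup 4 → ℕ
  | .r i => i.val
  | .sr i => 4 + i.val

/-- The class table. -/
def clsTab : List (List ℕ) :=
  [[0, 1, 2, 1, 3, 4, 3, 4], [5, 1, 2, 1, 3, 6, 7, 6], [5, 1, 2, 1, 3, 6, 7, 6],
    [5, 1, 2, 1, 7, 6, 3, 6], [8, 1, 2, 1, 7, 4, 7, 6], [8, 1, 2, 1, 7, 6, 7, 4],
    [5, 1, 2, 1, 7, 6, 3, 6], [8, 1, 2, 1, 7, 6, 7, 4], [8, 1, 2, 1, 7, 4, 7, 6]]

/-- The class of an element. -/
def clsOf (x : M) : Fin 9 :=
  ⟨(clsTab.getD (3 * x.left.toAdd.1.val + x.left.toAdd.2.val) []).getD (dIdx x.right) 0 % 9,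
    Nat.mod_lt _ (by decide)⟩

/-- The representatives. -/
def repM : Fin 9 → M :=
  ![mk 0 1, mk 0 (.r 1), mk 0 (.r 2), mk 0 (.sr 0), mk 0 (.sr 1), mk (0, 1) 1, mk (0, 1) (.sr 1),
    mk (0, 1) (.sr 2), mk (1, 1) 1]

/-- The class sizes. -/
def size : Fin 9 → ℤ := ![1, 18, 9, 6, 6, 4, 12, 12, 4]

theorem cls_conj : ∀ x y : M, clsOf (y * x * y⁻¹) = clsOf x := by decide +kernel

theorem exists_conj_rep : ∀ x : M, ∃ y : M, y * repM (clsOf x) * y⁻¹ = x := by decide +kernel

theorem cls_rep : ∀ c, clsOf (repM c) = c := by decide +kernel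

theorem cls_card : ∀ c, ((Finset.univ.filter fun x : M => clsOf x = c).card : ℤ) = size c := by
  decide +kernel

/-! ### Permutation characters and the lattice -/

/-- A point stabilizer on four points. -/
def in4 (x : M) : Bool := x.right == 1 || x.right == .sr 0

/-- A point stabilizer on six points. -/
def in6 (x : M) : Bool :=
  x.left.toAdd.1 == 0 &&
    (x.right == 1 || x.right == .r 2 || x.right == .sr 0 || x.right == .sr 2)

/-- A point stabilizer on nine points. -/
def in9 (x : M) : Bool := x.left == 1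

/-- Permutation characters at representatives. -/
def pi4 : Fin 9 → ℤ := ![4, 0, 0, 2, 0, 4, 0, 2, 4]
/-- Six points. -/
def pi6 : Fin 9 → ℤ := ![6, 0, 2, 4, 0, 3, 0, 1, 0]
/-- Nine points. -/
def pi9 : Fin 9 → ℤ := ![9, 1, 1, 3, 3, 0, 0, 0, 0]
/-- The first linear character. -/
def chP : Fin 9 → ℤ := ![1, -1, 1, 1, -1, 1, -1, 1, 1]
/-- The second linear character. -/
def chD : Fin 9 → ℤ := ![1, -1, 1, -1, 1, 1, 1, -1, 1]

/-- The four functions of the lattice. -/
def vval : Fin 4 → Fin 9 → ℤ :=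
  ![![0, 0, 0, 0, 0, 3, 0, 3, 6], ![0, 0, 0, 0, 0, 6, 3, 0, 3],
    ![0, 0, 0, 0, 0, -3, 3, 3, 3], ![0, 0, 0, 0, 0, 3, 3, 3, -3]]

theorem vval_eq : ∀ c,
    vval 0 c = pi4 c - pi6 c + 1 + chP c ∧
    vval 1 c = pi4 c - 2 * chP c + chD c + pi6 c - pi9 c ∧
    vval 2 c = 3 + chP c - chP c * chD c - pi6 c + chP c * pi9 c - chP c * pi6 c ∧
    vval 3 c = 1 - 2 * (chP c * chD c) - chD c + chD c * pi6 c - pi9 c + pi6 c - chP c := by
  decide +kernel

theorem lin_hom : ∀ x y : M, chP (clsOf (x * y)) = chP (clsOf x) * chP (clsOf y) ∧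
    chD (clsOf (x * y)) = chD (clsOf x) * chD (clsOf y) := by decide +kernel

theorem in4_subgroup : in4 1 = true ∧ ∀ x y : M, in4 x = true → in4 y = true →
    in4 (x * y) = true ∧ in4 x⁻¹ = true := by decide +kernel

theorem in6_subgroup : in6 1 = true ∧ ∀ x y : M, in6 x = true → in6 y = true →
    in6 (x * y) = true ∧ in6 x⁻¹ = true := by decide +kernel

theorem in9_subgroup : in9 1 = true ∧ ∀ x y : M, in9 x = true → in9 y = true →
    in9 (x * y) = true ∧ in9 x⁻¹ = true := by decide +kernel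

/-- Counting conjugates. -/
def hits (K : M → Bool) (x : M) : ℤ := ((Finset.univ.filter fun y : M => K (y⁻¹ * x * y)).card : ℤ)

theorem perm_count : ∀ c,
    hits in4 (repM c) = ((Finset.univ.filter fun y : M => in4 y).card : ℤ) * pi4 c ∧
    hits in6 (repM c) = ((Finset.univ.filter fun y : M => in6 y).card : ℤ) * pi6 c ∧
    hits in9 (repM c) = ((Finset.univ.filter fun y : M => in9 y).card : ℤ) * pi9 c := by
  decide +kernel

/-- The Gram matrix. -/
def gram : Fin 4 → Fin 4 → ℤ :=
  ![![4, 2, 2, 1], ![2, 4, 1, 2], ![2, 1, 4, 2], ![1, 2, 2, 4]]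

theorem gram_eq : ∀ i j, ∑ c, size c * (vval i c * vval j c) = 72 * gram i j := by decide +kernel

theorem trivial_eq : ∀ i, ∑ c, size c * vval i c = 72 := by decide +kernel

theorem vval_supp : ∀ i, ∀ c : Fin 9, c.val ≤ 4 → vval i c = 0 := by decide +kernel

/-! ### Facts about the elements -/

/-- Nontrivial translations. -/
def InV (x : M) : Prop := x.right = 1 ∧ x ≠ 1

instance instDecInV : DecidablePred InV := fun x => inferInstanceAs (Decidable (_ ∧ _))

theorem InV_cls : ∀ x : M, InV x ↔ clsOf x = 5 ∨ clsOf x = 8 := by decide +kernel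

theorem pow_mem_V : ∀ x : M, 4 < (clsOf x).val → InV (x * x) ∨ InV x := by decide +kernel

theorem invol_cls : ∀ x : M, x * x = 1 → x = 1 ∨ clsOf x = 2 ∨ clsOf x = 3 ∨ clsOf x = 4 := by
  decide +kernel

/-- The central involution, an axial and a diagonal reflection. -/
def invC : Fin 3 → M := ![mk 0 (.r 2), mk 0 (.sr 0), mk 0 (.sr 1)]

/-- Their classes. -/
def clC : Fin 3 → Fin 9 := ![2, 3, 4]

theorem invC_spec : ∀ i, invC i * invC i = 1 ∧ clsOf (invC i) = clC i ∧ invC i ≠ 1 := by
  decide +kernel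

/-- Translations centralized by the reflections. -/
def uR : Fin 2 → M := ![mk (1, 0) 1, mk (1, 2) 1]

theorem uR_spec : InV (uR 0) ∧ InV (uR 1) ∧ clsOf (uR 0) = 5 ∧ clsOf (uR 1) = 8 ∧
    uR 0 * invC 1 = invC 1 * uR 0 ∧ uR 1 * invC 2 = invC 2 * uR 1 ∧
    uR 0 * uR 0 * uR 0 = 1 ∧ uR 1 * uR 1 * uR 1 = 1 ∧ clsOf (uR 1 * uR 1) = 8 := by decide +kernel

theorem three_fix : ∀ x : M, x * invC 2 = invC 2 * x → x * uR 1 = uR 1 * x → x ^ 9 = 1 →
    x = 1 ∨ x = uR 1 ∨ x = uR 1 * uR 1 := by decide +kernel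

/-- The sums over two classes of involutions, in units of 36. -/
def pairRhs : Fin 3 → Fin 3 → Fin 4 → ℤ :=
  ![![![9, 9, 0, 0], ![3, 0, 3, 3], ![0, 3, 3, 3]],
    ![![3, 0, 3, 3], ![1, 2, -1, 1], ![0, 0, 0, 0]],
    ![![0, 3, 3, 3], ![0, 0, 0, 0], ![2, 1, 1, -1]]]

theorem pair_sum : ∀ (i j : Fin 3) (k : Fin 4),
    ∑ y ∈ (Finset.univ.filter fun x : M => clsOf x = clC i),
      ∑ z ∈ (Finset.univ.filter fun x : M => clsOf x = clC j), vval k (clsOf (y * z)) =
      36 * pairRhs i j k := by decide +kernel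

/-- The sum over translations of the class-function coordinates. -/
theorem translations : ∀ c, 18 * (if clsOf (repM c) = 5 ∨ clsOf (repM c) = 8 then 1 else 0) =
    2 * vval 0 c + 2 * vval 1 c - vval 2 c - vval 3 c := by decide +kernel

/-- The translation part of the outer automorphism. -/
def swapV (w : Vec) : Vec := (w.1 + w.2, w.1 - w.2)

/-- The dihedral part of the outer automorphism. -/
def swapD : DihedralGroup 4 → DihedralGroup 4
  | .r i => .r (-i)
  | .sr i => .sr (3 - i)

/-- The outer automorphism. -/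
def swapFn (x : M) : M := mk (swapV x.left.toAdd) (swapD x.right)

theorem swap_mul : ∀ x y : M, swapFn (x * y) = swapFn x * swapFn y := by decide +kernel

theorem swap_bij : ∀ x : M, swapFn x = 1 → x = 1 := by decide +kernel

theorem swap_invC : clsOf (swapFn (invC 0)) = 2 ∧ clsOf (swapFn (invC 1)) = 4 ∧
    clsOf (swapFn (invC 2)) = 3 := by decide +kernel

end CfsgLib.Char.NineDihedral
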